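import Groth.Prelude.Def_Pic13
import Groth.Agent.Etcore.DegZero
import Groth.Agent.S1530
import Groth.Agent.CohqB.AmpGeneric
import Groth.Agent.Pic13.H138.AlgEquiv

/-!
# Degrees of ample modules on curves; twists ample implies numerically trivial

* `curveDeg_eq_dg` : `Pic13.curveDeg k p L = dg (mk L)`.
* `curveDeg_pos_of_isAmple`, `isAmple_iff_curveDeg_pos` on proper integral curves.
* `isNumEquivZero_iff_dg` : numerical triviality in terms of the Picard group.
* `isNumEquivZero_of_twists_ample` : if `L^m ⊗ H`, `L'^m ⊗ H` are ample for all `m`, `L` is numerically trivial.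
-/

set_option autoImplicit false
universe u
open CategoryTheory CategoryTheory.Limits AlgebraicGeometry

namespace Groth.Agent.Pic13.H945.DegAmple

open Grpsch.PicGrp Etcore.DegZero Fdesc.LocGen

variable (k : Type u) [Field k]

local notation "Sk" => Spec (CommRingCat.of k)

theorem curveDeg_eq_dg {Y : Scheme.{u}} (p : Y ⟶ Sk) {L : Y.Modules} (hL : PicF.IsInvertible L) :
    Pic13.curveDeg k p L = @dg k _ Y ⟨p⟩ (mk L hL) := rfl

section curve

variable (Y : Scheme.{u}) [Y.Over (Spec (CommRingCat.of k))] [IsIntegral Y]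
  [IsProper (Y ↘ (Spec (CommRingCat.of k)))] (hdim : topologicalKrullDim Y = 1)

include hdim

theorem dg_eq_deg {L : Y.Modules} (hL : PicF.IsInvertible L) :
    dg k Y (mk L hL) = Curv2.deg k Y L 1 := by
  rw [dg_mk, eulerCharLE_eq k Y hdim, eulerCharLE_eq k Y hdim, Curv2.deg]
  push_cast
  ring

/-- Ampleness on a proper integral curve is positivity of the degree. -/
theorem isAmple_iff_dg_pos {L : Y.Modules} (hL : PicF.IsInvertible L) :
    CohB1.IsAmple L ↔ 0 < dg k Y (mk L hL) := by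
  rw [dg_eq_deg k Y hdim hL]
  exact S1530.result k Y hdim L hL

end curve

theorem isAmple_iff_curveDeg_pos {Y : Scheme.{u}} (p : Y ⟶ Sk) [IsProper p] [IsIntegral Y]
    (hdim : topologicalKrullDim Y = 1) {L : Y.Modules} (hL : PicF.IsInvertible L) :
    CohB1.IsAmple L ↔ 0 < Pic13.curveDeg k p L := by
  let _ : Y.Over Sk := ⟨p⟩
  have : IsProper (Y ↘ Sk) := ‹IsProper p›
  rw [curveDeg_eq_dg k p hL]
  exact isAmple_iff_dg_pos k Y hdim hL

variable (X : Scheme.{u}) [X.Over (Spec (CommRingCat.of k))]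

/-- Numerical triviality of a class. -/
def NumZero (a : Pic X) : Prop :=
  ∀ (Y : Scheme.{u}) (i : Y ⟶ X) [IsClosedImmersion i], IsIntegral Y → topologicalKrullDim Y = 1 →
    @dg k _ Y ⟨i ≫ (X ↘ Sk)⟩ (pull i a) = 0

theorem isNumEquivZero_iff {L : X.Modules} (hL : PicF.IsInvertible L) :
    Pic13.IsNumEquivZero k X L ↔ NumZero k X (mk L hL) := Iff.rfl

section

variable [IsProper (X ↘ Spec (CommRingCat.of k))]

/-- Numerically trivial classes form a subgroup. -/
def num0 : Subgroup (Pic X) where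
  carrier := {a | NumZero k X a}
  one_mem' := fun Y i _ _ _ => by
    rw [map_one, dg_one]
  mul_mem' := fun {a b} ha hb Y i _ hY hd => by
    let _ : Y.Over Sk := ⟨i ≫ (X ↘ Sk)⟩
    have : IsProper (Y ↘ Sk) := inferInstanceAs (IsProper (i ≫ (X ↘ Sk)))
    rw [map_mul]
    have := dg_mul k Y hd (pull i a) (pull i b)
    rw [this, ha Y i hY hd, hb Y i hY hd, add_zero]
  inv_mem' := fun {a} ha Y i _ hY hd => by
    let _ : Y.Over Sk := ⟨i ≫ (X ↘ Sk)⟩
    have : IsProper (Y ↘ Sk) := inferInstanceAs (IsProper (i ≫ (X ↘ Sk)))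
    rw [map_inv]
    have := dg_inv k Y hd (pull i a)
    rw [this, ha Y i hY hd, neg_zero]

theorem mem_num0_iff {a : Pic X} : a ∈ num0 k X ↔ NumZero k X a := Iff.rfl

theorem isNumEquivZero_iff_mem {L : X.Modules} (hL : PicF.IsInvertible L) :
    Pic13.IsNumEquivZero k X L ↔ mk L hL ∈ num0 k X := Iff.rfl

/-- If `L^m ⊗ H` and `L'^m ⊗ H` are ample for all `m` then `L` is numerically trivial. -/
theorem isNumEquivZero_of_twists_ample
    (H : X.Modules) (hH : CohB1.IsAmple H) (L L' : X.Modules) (hL : PicF.IsInvertible L)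
    (hLL' : Nonempty (CohB1.tensorMod L L' ≅ Coh.structureModule X))
    (hamp : ∀ m : ℕ, CohB1.IsAmple (CohB1.tensorMod (CohB1.tensorPow L m) H) ∧
      CohB1.IsAmple (CohB1.tensorMod (CohB1.tensorPow L' m) H)) :
    Pic13.IsNumEquivZero k X L := by
  rw [isNumEquivZero_iff k X hL]
  -- `L'` is invertible, of class `(mk L)⁻¹`
  have hL' : PicF.IsInvertible L' := by
    obtain ⟨M, hM, ⟨e⟩⟩ := exists_inverse hL
    obtain ⟨e'⟩ := hLL'
    refine H138.AlgEquiv.isInvertible_of_iso (?_ : M ≅ L') hM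
    exact (Ega2.Tens.runit _).symm ≪≫ Ega2.Tens.mapTIso (Iso.refl _) e'.symm ≪≫
      (Ega2.Tens.assoc _ _ _).symm ≪≫ Ega2.Tens.mapTIso (Ega2.Tens.swap _ _ ≪≫ e) (Iso.refl _) ≪≫
        Ega2.Tens.lunit _
  have hinv : mk L' hL' = (mk L hL)⁻¹ := by
    have h1 : mk L hL * mk L' hL' = 1 := by
      rw [mk_mul_mk, mk_eq_one_iff]
      exact hLL'
    exact eq_inv_of_mul_eq_one_right h1
  intro Y i _ hY hd
  let _ : Y.Over Sk := ⟨i ≫ (X ↘ Sk)⟩
  have : IsProper (Y ↘ Sk) := inferInstanceAs (IsProper (i ≫ (X ↘ Sk)))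
  change dg k Y (pull i (mk L hL)) = 0
  set d := dg k Y (pull i (mk L hL)) with hdd
  set h := dg k Y (pull i (mk H hH.1)) with hhd
  have key1 : ∀ m : ℕ, 0 < (m : ℤ) * d + h := by
    intro m
    have h1 := (hamp m).1
    have h2 := (isAmple_iff_dg_pos k Y hd (isInvertible_pullback i h1.1)).mp
      (CohqB.AmpCocycle.isAmple_pullback i h1)
    have h3 : mk _ (isInvertible_pullback i h1.1) = (pull i (mk L hL)) ^ m * pull i (mk H hH.1) := by
      rw [← pull_mk i h1.1, ← map_pow, ← map_mul, ← mk_tensorPow]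
      rfl
    rw [h3, dg_mul k Y hd, dg_pow k Y hd] at h2
    exact h2
  have key2 : ∀ m : ℕ, 0 < -(m : ℤ) * d + h := by
    intro m
    have h1 := (hamp m).2
    have h2 := (isAmple_iff_dg_pos k Y hd (isInvertible_pullback i h1.1)).mp
      (CohqB.AmpCocycle.isAmple_pullback i h1)
    have h3 : mk _ (isInvertible_pullback i h1.1) = (pull i (mk L hL))⁻¹ ^ m * pull i (mk H hH.1) := by
      rw [← pull_mk i h1.1, ← map_inv, ← map_pow, ← map_mul, ← hinv, ← mk_tensorPow]
      rfl
    rw [h3, dg_mul k Y hd, dg_pow k Y hd, dg_inv k Y hd] at h2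
    linarith
  by_contra hne
  have h0 : 1 ≤ |d| := Int.one_le_abs hne
  have hn := h.toNat
  have hle : h ≤ (h.toNat : ℤ) := Int.self_le_toNat h
  rcases abs_cases d with ⟨e, _⟩ | ⟨e, _⟩
  · have := key2 h.toNat
    have h2 : (h.toNat : ℤ) * 1 ≤ (h.toNat : ℤ) * d :=
      mul_le_mul_of_nonneg_left (by linarith) (by positivity)
    linarith
  · have := key1 h.toNat
    have h2 : (h.toNat : ℤ) * 1 ≤ (h.toNat : ℤ) * (-d) :=
      mul_le_mul_of_nonneg_left (by linarith) (by positivity)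
    linarith

end

end Groth.Agent.Pic13.H945.DegAmple
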