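import Groth.Agent.Dix.IdealModCartier
import Groth.Agent.Flat2G.AcyclicRing
import Groth.Agent.CohqB.AffIso
import Groth.Agent.CohqA.IdealMod

/-!
# Pullback of the module of an ideal sheaf

For `g : Y ⟶ X` and an ideal sheaf `J` of `X`:
* `pullVal`: the map `Γ(idealMod J, U) → Γ(idealMod (J.comap g), V)`, `V ≤ g⁻¹ U`, pulling back functions;
* `theta : g^* (idealMod J) ⟶ idealMod (J.comap g)`;
* `IsBCI`: for a square over `f : T ⟶ S`, the map `Γ(T) ⊗ Γ(idealMod J, UX) → Γ(idealMod (J.comap g), UY)` is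
  bijective;
* `isIso_theta_of_flat`, `isBCI_of_isBC`.
-/

set_option autoImplicit false
universe u
open CategoryTheory CategoryTheory.Limits AlgebraicGeometry Opposite TopologicalSpace TensorProduct

namespace Groth.Agent.Pic13.H945.IdealPull

open Groth.Agent.Fdesc.LocGen Groth.Agent.Dix.IdealModSec Groth.Agent.Dix.IdealModCartier
open Groth.Agent.Divis.IdealComap Groth.Agent.VarietyB.FlatH0 Groth.Agent.VarietyB.BCAlg

section Theta

variable {X Y : Scheme.{u}} (g : Y ⟶ X) (J : X.IdealSheafData)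

lemma exists_pull {U : X.Opens} {V : Y.Opens} (e : V ≤ g ⁻¹ᵁ U) (s : Γ(ClSub.idealMod J, U)) :
    ∃ t : Γ(ClSub.idealMod (J.comap g), V), val (J.comap g) t = g.appLE U V e (val J s) := by
  refine exists_val_eq_of_local (J.comap g) V _ (fun y hy => ?_)
  obtain ⟨U', V', hgy, hyV', hV'le, hU'U, hV'U'⟩ := exists_affine_le g y V hy U (e hy)
  refine ⟨V', hV'le, hyV', ?_⟩
  rw [ideal_comap J g U' V' hV'U']
  have h1 : ores hV'le (g.appLE U V e (val J s)) = (g.appLE U'.1 V'.1 hV'U').hom (ores hU'U (val J s)) := by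
    change (g.appLE U V e ≫ Y.presheaf.map (homOfLE hV'le).op) (val J s) =
      (X.presheaf.map (homOfLE hU'U).op ≫ g.appLE U'.1 V'.1 hV'U') (val J s)
    rw [Scheme.Hom.map_appLE, Scheme.Hom.appLE_map]
  rw [h1]
  exact Ideal.mem_map_of_mem _ (by rw [← val_res]; exact val_mem J U' _)

/-- Pulling back sections of the ideal. -/
noncomputable def pullVal {U : X.Opens} {V : Y.Opens} (e : V ≤ g ⁻¹ᵁ U) (s : Γ(ClSub.idealMod J, U)) :
    Γ(ClSub.idealMod (J.comap g), V) := (exists_pull g J e s).choose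

lemma val_pullVal {U : X.Opens} {V : Y.Opens} (e : V ≤ g ⁻¹ᵁ U) (s : Γ(ClSub.idealMod J, U)) :
    val (J.comap g) (pullVal g J e s) = g.appLE U V e (val J s) := (exists_pull g J e s).choose_spec

lemma val_add (D : X.IdealSheafData) {U : X.Opens} (s t : Γ(ClSub.idealMod D, U)) :
    val D (s + t) = val D s + val D t := map_add ((ClSub.idealModι D).app U).hom s t

lemma val_zero (D : X.IdealSheafData) {U : X.Opens} : val D (0 : Γ(ClSub.idealMod D, U)) = 0 :=
  map_zero ((ClSub.idealModι D).app U).hom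

/-- Pulling back sections of the ideal, as an additive map. -/
noncomputable def pullAdd {U : X.Opens} {V : Y.Opens} (e : V ≤ g ⁻¹ᵁ U) :
    Γ(ClSub.idealMod J, U) →+ Γ(ClSub.idealMod (J.comap g), V) where
  toFun := pullVal g J e
  map_zero' := by
    apply val_injective
    rw [val_pullVal, val_zero, val_zero, map_zero]
  map_add' s t := by
    apply val_injective
    rw [val_pullVal, val_add, val_add, val_pullVal, val_pullVal, map_add]

lemma pullVal_smul {U : X.Opens} {V : Y.Opens} (e : V ≤ g ⁻¹ᵁ U) (a : Γ(X, U)) (s : Γ(ClSub.idealMod J, U)) :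
    pullVal g J e (a • s) = g.appLE U V e a • pullVal g J e s := by
  apply val_injective
  rw [val_pullVal, val_smul, val_smul, val_pullVal, map_mul]

lemma pullVal_res {U U' : X.Opens} {V V' : Y.Opens} (e : V ≤ g ⁻¹ᵁ U) (e' : V' ≤ g ⁻¹ᵁ U') (hU : U' ≤ U)
    (hV : V' ≤ V) (s : Γ(ClSub.idealMod J, U)) :
    pullVal g J e' (res _ hU s) = res _ hV (pullVal g J e s) := by
  apply val_injective
  rw [val_pullVal, val_res, val_res, val_pullVal]
  change (X.presheaf.map (homOfLE hU).op ≫ g.appLE U' V' e') (val J s) =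
    (g.appLE U V e ≫ Y.presheaf.map (homOfLE hV).op) (val J s)
  rw [Scheme.Hom.map_appLE, Scheme.Hom.appLE_map]

/-- The map `idealMod J ⟶ g_* idealMod (J.comap g)`. -/
noncomputable def psi : ClSub.idealMod J ⟶ (Scheme.Modules.pushforward g).obj (ClSub.idealMod (J.comap g)) :=
  mkHom (N := (Scheme.Modules.pushforward g).obj (ClSub.idealMod (J.comap g)))
    (fun U => (pullAdd g J (le_refl (g ⁻¹ᵁ U)) : Γ(ClSub.idealMod J, U) →+ Γ(ClSub.idealMod (J.comap g), g ⁻¹ᵁ U)))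
    (fun U a m => by
      refine (pullVal_smul g J (le_refl (g ⁻¹ᵁ U)) a m).trans ?_
      rw [Scheme.Hom.appLE_eq_app]
      rfl)
    (fun U V h m => pullVal_res g J _ _ h (Scheme.Hom.preimage_mono g h) m)

lemma psi_app (U : X.Opens) (s : Γ(ClSub.idealMod J, U)) :
    (psi g J).app U s = pullVal g J (le_refl (g ⁻¹ᵁ U)) s := rfl

/-- The canonical map `g^* (idealMod J) ⟶ idealMod (J.comap g)`. -/
noncomputable def theta : (Scheme.Modules.pullback g).obj (ClSub.idealMod J) ⟶ ClSub.idealMod (J.comap g) :=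
  ((Scheme.Modules.pullbackPushforwardAdjunction g).homEquiv _ _).symm (psi g J)

lemma unit_theta : (Scheme.Modules.pullbackPushforwardAdjunction g).unit.app (ClSub.idealMod J) ≫
    (Scheme.Modules.pushforward g).map (theta g J) = psi g J := by
  have := ((Scheme.Modules.pullbackPushforwardAdjunction g).homEquiv _ _).apply_symm_apply (psi g J)
  rw [Adjunction.homEquiv_unit] at this
  exact this

lemma theta_sec {U : X.Opens} {V : Y.Opens} (e : V ≤ g ⁻¹ᵁ U) (s : Γ(ClSub.idealMod J, U)) :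
    (theta g J).app V (Groth.Agent.VarietyB.PullSec.sec g _ e s) = pullVal g J e s := by
  have h1 : (theta g J).app V (Groth.Agent.VarietyB.PullSec.sec g _ e s) =
      res _ e ((theta g J).app (g ⁻¹ᵁ U)
        (((Scheme.Modules.pullbackPushforwardAdjunction g).unit.app (ClSub.idealMod J)).app U s)) :=
    app_res (theta g J) e _
  have h2 : (theta g J).app (g ⁻¹ᵁ U)
        (((Scheme.Modules.pullbackPushforwardAdjunction g).unit.app (ClSub.idealMod J)).app U s) =
      pullVal g J (le_refl (g ⁻¹ᵁ U)) s := congr(($(unit_theta g J)).app U s)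
  rw [h1, h2, ← pullVal_res g J (le_refl (g ⁻¹ᵁ U)) e le_rfl e s, res_refl]

end Theta

section BC

variable {X Y S T : Scheme.{u}} {f : T ⟶ S} {g : Y ⟶ X} {iX : X ⟶ S} {iY : Y ⟶ T}

/-- A section of the structure module as a function. -/
abbrev fn {X : Scheme.{u}} {U : X.Opens} (a : Γ(Coh.structureModule X, U)) : Γ(X, U) := a

/-- Sections of a morphism of modules as a linear map over the base. -/
noncomputable def appL {M N : Y.Modules} (iY : Y ⟶ T) (φ : M ⟶ N) {UT : T.Opens} {UY : Y.Opens}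
    (e' : UY ≤ iY ⁻¹ᵁ UT) :
    letI := modOver iY M e'
    letI := modOver iY N e'
    Γ(M, UY) →ₗ[Γ(T, UT)] Γ(N, UY) :=
  letI := modOver iY M e'
  letI := modOver iY N e'
  { toFun := φ.app UY
    map_add' := map_add _
    map_smul' := fun a m => Scheme.Modules.Hom.app_smul φ (iY.appLE UT UY e' a) m }

lemma appLE_comm (w : g ≫ iX = iY ≫ f) {US : S.Opens} {UT : T.Opens} (hUST : UT ≤ f ⁻¹ᵁ US)
    {UX : X.Opens} (hUSX : UX ≤ iX ⁻¹ᵁ US) {UY : Y.Opens} (e : UY ≤ g ⁻¹ᵁ UX) (e' : UY ≤ iY ⁻¹ᵁ UT)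
    (a : Γ(S, US)) :
    g.appLE UX UY e (iX.appLE US UX hUSX a) = iY.appLE UT UY e' (f.appLE US UT hUST a) := by
  rw [← CommRingCat.comp_apply, ← CommRingCat.comp_apply, Scheme.Hom.appLE_comp_appLE,
    Scheme.Hom.appLE_comp_appLE]
  simp only [w]

/-- The semilinear map `Γ(idealMod J, UX) → Γ(idealMod (J.comap g), UY)`. -/
noncomputable def thS (w : g ≫ iX = iY ≫ f) (J : X.IdealSheafData)
    {US : S.Opens} {UT : T.Opens} (hUST : UT ≤ f ⁻¹ᵁ US) {UX : X.Opens} (hUSX : UX ≤ iX ⁻¹ᵁ US)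
    {UY : Y.Opens} (e : UY ≤ g ⁻¹ᵁ UX) (e' : UY ≤ iY ⁻¹ᵁ UT) :
    letI := algOver f hUST
    letI := modOver iX (ClSub.idealMod J) hUSX
    letI := modOver iY (ClSub.idealMod (J.comap g)) e'
    Γ(ClSub.idealMod J, UX) →ₛₗ[algebraMap Γ(S, US) Γ(T, UT)] Γ(ClSub.idealMod (J.comap g), UY) :=
  letI := algOver f hUST
  letI := modOver iX (ClSub.idealMod J) hUSX
  letI := modOver iY (ClSub.idealMod (J.comap g)) e'
  { toFun := pullVal g J e
    map_add' := map_add (pullAdd g J e)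
    map_smul' := fun a m => by
      refine (pullVal_smul g J e (iX.appLE US UX hUSX a) m).trans ?_
      rw [appLE_comm w hUST hUSX e e' a]
      rfl }

/-- The map `Γ(T, UT) ⊗ Γ(idealMod J, UX) → Γ(idealMod (J.comap g), UY)` is bijective. -/
def IsBCI (w : g ≫ iX = iY ≫ f) (J : X.IdealSheafData)
    {US : S.Opens} {UT : T.Opens} (hUST : UT ≤ f ⁻¹ᵁ US) {UX : X.Opens} (hUSX : UX ≤ iX ⁻¹ᵁ US)
    {UY : Y.Opens} (e : UY ≤ g ⁻¹ᵁ UX) (e' : UY ≤ iY ⁻¹ᵁ UT) : Prop :=
  letI := algOver f hUST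
  letI := modOver iX (ClSub.idealMod J) hUSX
  letI := modOver iY (ClSub.idealMod (J.comap g)) e'
  Function.Bijective (bc (thS w J hUST hUSX e e'))

lemma theta_bc (w : g ≫ iX = iY ≫ f) (J : X.IdealSheafData)
    {US : S.Opens} {UT : T.Opens} (hUST : UT ≤ f ⁻¹ᵁ US) {UX : X.Opens} (hUSX : UX ≤ iX ⁻¹ᵁ US)
    {UY : Y.Opens} (e : UY ≤ g ⁻¹ᵁ UX) (e' : UY ≤ iY ⁻¹ᵁ UT) :
    letI := algOver f hUST
    letI := modOver iX (ClSub.idealMod J) hUSX
    letI := modOver iY (ClSub.idealMod (J.comap g)) e'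
    letI := modOver iY ((Scheme.Modules.pullback g).obj (ClSub.idealMod J)) e'
    (bc (thS w J hUST hUSX e e') : _ → _) = (theta g J).app UY ∘ (bc (secS w (ClSub.idealMod J) hUST hUSX e e')) := by
  let i1 := algOver f hUST
  let i2 := modOver iX (ClSub.idealMod J) hUSX
  let i3 := modOver iY (ClSub.idealMod (J.comap g)) e'
  let i4 := modOver iY ((Scheme.Modules.pullback g).obj (ClSub.idealMod J)) e'
  funext x
  have h := bc_comm (secS w (ClSub.idealMod J) hUST hUSX e e') (thS w J hUST hUSX e e') LinearMap.id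
    (appL iY (theta g J) e') (fun m => theta_sec g J e m) x
  rw [LinearMap.lTensor_id, LinearMap.id_apply] at h
  exact h.symm

/-- Passing from the pullback to the ideal of the inverse image. -/
theorem isBCI_of_isBC {w : g ≫ iX = iY ≫ f} {J : X.IdealSheafData}
    {US : S.Opens} {UT : T.Opens} {hUST : UT ≤ f ⁻¹ᵁ US} {UX : X.Opens} {hUSX : UX ≤ iX ⁻¹ᵁ US}
    {UY : Y.Opens} {e : UY ≤ g ⁻¹ᵁ UX} {e' : UY ≤ iY ⁻¹ᵁ UT}
    (h : IsBC w (ClSub.idealMod J) hUST hUSX e e') (ht : Function.Bijective ((theta g J).app UY)) :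
    IsBCI w J hUST hUSX e e' := by
  unfold IsBCI
  rw [theta_bc]
  exact ht.comp h

theorem bijective_theta_app {w : g ≫ iX = iY ≫ f} {J : X.IdealSheafData}
    {US : S.Opens} {UT : T.Opens} {hUST : UT ≤ f ⁻¹ᵁ US} {UX : X.Opens} {hUSX : UX ≤ iX ⁻¹ᵁ US}
    {UY : Y.Opens} {e : UY ≤ g ⁻¹ᵁ UX} {e' : UY ≤ iY ⁻¹ᵁ UT}
    (h : IsBC w (ClSub.idealMod J) hUST hUSX e e') (ht : IsBCI w J hUST hUSX e e') :
    Function.Bijective ((theta g J).app UY) := by
  unfold IsBCI at ht
  rw [theta_bc] at ht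
  exact (Function.Bijective.of_comp_iff _ h).mp ht

/-- Functions underlying sections of the ideal, linearly over the base. -/
noncomputable def valL (iX : X ⟶ S) (J : X.IdealSheafData) {US : S.Opens} {UX : X.Opens} (hUSX : UX ≤ iX ⁻¹ᵁ US) :
    letI := modOver iX (ClSub.idealMod J) hUSX
    letI := modOver iX (Coh.structureModule X) hUSX
    Γ(ClSub.idealMod J, UX) →ₗ[Γ(S, US)] Γ(Coh.structureModule X, UX) :=
  appL iX (ClSub.idealModι J) hUSX

/-- Pulling back functions, semilinearly. -/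
noncomputable def oS (w : g ≫ iX = iY ≫ f) {US : S.Opens} {UT : T.Opens} (hUST : UT ≤ f ⁻¹ᵁ US)
    {UX : X.Opens} (hUSX : UX ≤ iX ⁻¹ᵁ US) {UY : Y.Opens} (e : UY ≤ g ⁻¹ᵁ UX) (e' : UY ≤ iY ⁻¹ᵁ UT) :
    letI := algOver f hUST
    letI := modOver iX (Coh.structureModule X) hUSX
    letI := modOver iY (Coh.structureModule Y) e'
    Γ(Coh.structureModule X, UX) →ₛₗ[algebraMap Γ(S, US) Γ(T, UT)] Γ(Coh.structureModule Y, UY) :=
  letI := algOver f hUST
  letI := modOver iX (Coh.structureModule X) hUSX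
  letI := modOver iY (Coh.structureModule Y) e'
  { toFun := fun a => (g.appLE UX UY e (a : Γ(X, UX)) : Γ(Y, UY))
    map_add' := fun a b => map_add (g.appLE UX UY e).hom (a : Γ(X, UX)) b
    map_smul' := fun a m => by
      refine (map_mul (g.appLE UX UY e).hom (iX.appLE US UX hUSX a) (m : Γ(X, UX))).trans ?_
      exact congrArg (· * g.appLE UX UY e (m : Γ(X, UX))) (appLE_comm w hUST hUSX e e' a) }

theorem bijective_bc_oS (w : g ≫ iX = iY ≫ f) {US : S.Opens} {UT : T.Opens} {hUST : UT ≤ f ⁻¹ᵁ US}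
    {UX : X.Opens} {hUSX : UX ≤ iX ⁻¹ᵁ US} {UY : Y.Opens} {e : UY ≤ g ⁻¹ᵁ UX} {e' : UY ≤ iY ⁻¹ᵁ UT}
    (h : IsBC w (Coh.structureModule X) hUST hUSX e e') :
    letI := algOver f hUST
    letI := modOver iX (Coh.structureModule X) hUSX
    letI := modOver iY (Coh.structureModule Y) e'
    Function.Bijective (bc (oS w hUST hUSX e e')) := by
  let i1 := algOver f hUST
  let i2 := modOver iX (Coh.structureModule X) hUSX
  let i3 := modOver iY (Coh.structureModule Y) e'
  let i4 := modOver iY ((Scheme.Modules.pullback g).obj (Coh.structureModule X)) e'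
  have hu : Function.Bijective ((Groth.Agent.Fga.UnitRestrict.pullbackUnitHom g).app UY) := by
    have h1 : IsIso (Groth.Agent.Fga.UnitRestrict.pullbackUnitHom g) := inferInstance
    rw [Scheme.Modules.Hom.isIso_iff_isIso_app] at h1
    exact (ConcreteCategory.isIso_iff_bijective _).mp (h1 UY)
  have hc : (bc (oS w hUST hUSX e e') : _ → _) = (Groth.Agent.Fga.UnitRestrict.pullbackUnitHom g).app UY ∘
      (bc (secS w (Coh.structureModule X) hUST hUSX e e')) := by
    funext x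
    have h := bc_comm (secS w (Coh.structureModule X) hUST hUSX e e') (oS w hUST hUSX e e') LinearMap.id
      (appL iY (Groth.Agent.Fga.UnitRestrict.pullbackUnitHom g) e')
      (fun m => Groth.Agent.Flat2G.AcyclicRing.pullbackUnitHom_sec g e m) x
    rw [LinearMap.lTensor_id, LinearMap.id_apply] at h
    exact h.symm
  rw [hc]
  exact hu.comp h

lemma val_bc (w : g ≫ iX = iY ≫ f) (J : X.IdealSheafData) {US : S.Opens} {UT : T.Opens}
    (hUST : UT ≤ f ⁻¹ᵁ US) {UX : X.Opens} (hUSX : UX ≤ iX ⁻¹ᵁ US) {UY : Y.Opens} (e : UY ≤ g ⁻¹ᵁ UX)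
    (e' : UY ≤ iY ⁻¹ᵁ UT) :
    letI := algOver f hUST
    letI := modOver iX (ClSub.idealMod J) hUSX
    letI := modOver iY (ClSub.idealMod (J.comap g)) e'
    letI := modOver iX (Coh.structureModule X) hUSX
    letI := modOver iY (Coh.structureModule Y) e'
    ∀ x, (val (J.comap g) (bc (thS w J hUST hUSX e e') x) : Γ(Y, UY)) =
      bc (oS w hUST hUSX e e') ((valL iX J hUSX).lTensor Γ(T, UT) x) := by
  let i1 := algOver f hUST
  let i2 := modOver iX (ClSub.idealMod J) hUSX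
  let i3 := modOver iY (ClSub.idealMod (J.comap g)) e'
  let i4 := modOver iX (Coh.structureModule X) hUSX
  let i5 := modOver iY (Coh.structureModule Y) e'
  intro x
  exact bc_comm (thS w J hUST hUSX e e') (oS w hUST hUSX e e') (valL iX J hUSX)
    (valL iY (J.comap g) e') (fun m => val_pullVal g J e m) x

/-- The affine case. -/
theorem isBCI_affine (H : IsPullback g iY iX f) (J : X.IdealSheafData)
    {US : S.Opens} {UT : T.Opens} (hUST : UT ≤ f ⁻¹ᵁ US)
    {UX : X.Opens} (hUSX : UX ≤ iX ⁻¹ᵁ US) {UY : Y.Opens} (hUY : UY = g ⁻¹ᵁ UX ⊓ iY ⁻¹ᵁ UT)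
    (e : UY ≤ g ⁻¹ᵁ UX) (e' : UY ≤ iY ⁻¹ᵁ UT)
    (hUS : IsAffineOpen US) (hUT : IsAffineOpen UT) (hUX : IsAffineOpen UX)
    (hinj : letI := algOver f hUST
      letI := modOver iX (ClSub.idealMod J) hUSX
      letI := modOver iX (Coh.structureModule X) hUSX
      Function.Injective ((valL iX J hUSX).lTensor Γ(T, UT))) :
    IsBCI H.w J hUST hUSX e e' := by
  have hO := bijective_bc_oS H.w (isBC_affine H (Coh.structureModule X)
    (Groth.Agent.Ega2.QCohLocal.isQCoh_structureModule X) hUST hUSX hUY e e' hUS hUT hUX)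
  have hUYa := isAffineOpen_pull H hUST hUSX hUY hUS hUT hUX
  let i1 := algOver f hUST
  let i2 := modOver iX (ClSub.idealMod J) hUSX
  let i3 := modOver iY (ClSub.idealMod (J.comap g)) e'
  let i4 := modOver iX (Coh.structureModule X) hUSX
  let i5 := modOver iY (Coh.structureModule Y) e'
  have hval := val_bc H.w J hUST hUSX e e'
  constructor
  · intro x y hxy
    apply hinj
    apply hO.1
    refine (hval x).symm.trans (Eq.trans ?_ (hval y))
    exact congrArg (val (J.comap g)) hxy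
  · -- multiples of a pulled back section
    have h1 : ∀ (z : Γ(T, UT) ⊗[Γ(S, US)] Γ(Coh.structureModule X, UX)) (s : Γ(ClSub.idealMod J, UX)),
        ∃ x : Γ(T, UT) ⊗[Γ(S, US)] Γ(ClSub.idealMod J, UX),
          (bc (thS H.w J hUST hUSX e e') x : Γ(ClSub.idealMod (J.comap g), UY)) =
            fn (bc (oS H.w hUST hUSX e e') z) • pullVal g J e s := by
      intro z s
      induction z with
      | zero =>
        refine ⟨0, ?_⟩
        rw [map_zero, map_zero]
        exact (zero_smul Γ(Y, UY) (pullVal g J e s)).symm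
      | add z z' hz hz' =>
        obtain ⟨x, hx⟩ := hz
        obtain ⟨x', hx'⟩ := hz'
        refine ⟨x + x', ?_⟩
        rw [map_add, map_add, hx, hx']
        exact (add_smul (R := Γ(Y, UY)) _ _ (pullVal g J e s)).symm
      | tmul c a =>
        refine ⟨c ⊗ₜ (fn a • s), ?_⟩
        rw [bc_tmul, bc_tmul]
        refine (congrArg (fun t : Γ(ClSub.idealMod (J.comap g), UY) => (iY.appLE UT UY e' c) • t)
          (pullVal_smul g J e (fn a) s)).trans ?_
        exact (mul_smul (iY.appLE UT UY e' c) (g.appLE UX UY e (fn a)) (pullVal g J e s)).symm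
    -- stability under multiplication
    have h2 : ∀ (r : Γ(Y, UY)) (x : Γ(T, UT) ⊗[Γ(S, US)] Γ(ClSub.idealMod J, UX)),
        ∃ x' : Γ(T, UT) ⊗[Γ(S, US)] Γ(ClSub.idealMod J, UX),
          (bc (thS H.w J hUST hUSX e e') x' : Γ(ClSub.idealMod (J.comap g), UY)) =
            r • (bc (thS H.w J hUST hUSX e e') x : Γ(ClSub.idealMod (J.comap g), UY)) := by
      intro r x
      induction x with
      | zero =>
        refine ⟨0, ?_⟩
        rw [map_zero]
        exact (smul_zero r).symm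
      | add x y hx hy =>
        obtain ⟨x', hx'⟩ := hx
        obtain ⟨y', hy'⟩ := hy
        refine ⟨x' + y', ?_⟩
        rw [map_add, map_add, hx', hy']
        exact (smul_add r _ _).symm
      | tmul c s =>
        obtain ⟨z, hz⟩ := hO.2 (r * iY.appLE UT UY e' c : Γ(Y, UY))
        obtain ⟨x', hx'⟩ := h1 z s
        refine ⟨x', ?_⟩
        rw [hx', hz, bc_tmul]
        exact mul_smul r (iY.appLE UT UY e' c) (pullVal g J e s)
    intro t
    have ht := val_mem (J.comap g) ⟨UY, hUYa⟩ t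
    rw [ideal_comap J g ⟨UX, hUX⟩ ⟨UY, hUYa⟩ e] at ht
    have h3 : ∀ y ∈ (J.ideal ⟨UX, hUX⟩).map (g.appLE UX UY e).hom,
        ∃ x : Γ(T, UT) ⊗[Γ(S, US)] Γ(ClSub.idealMod J, UX),
          val (J.comap g) (bc (thS H.w J hUST hUSX e e') x : Γ(ClSub.idealMod (J.comap g), UY)) = y := by
      intro y hy
      refine Submodule.span_induction ?_ ?_ ?_ ?_ hy
      · rintro _ ⟨a, ha, rfl⟩
        obtain ⟨s, rfl⟩ := exists_val_eq J ⟨UX, hUX⟩ ha
        refine ⟨1 ⊗ₜ s, ?_⟩
        rw [bc_tmul, one_smul]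
        exact val_pullVal g J e s
      · exact ⟨0, by rw [map_zero, val_zero]⟩
      · rintro y y' - - ⟨x, hx⟩ ⟨x', hx'⟩
        exact ⟨x + x', by rw [map_add, val_add, hx, hx']⟩
      · rintro r y - ⟨x, hx⟩
        obtain ⟨x', hx'⟩ := h2 r x
        exact ⟨x', by rw [hx', val_smul, hx]; rfl⟩
    obtain ⟨x, hx⟩ := h3 _ ht
    exact ⟨x, val_injective _ hx⟩

theorem isBCI_affine_of_flat (H : IsPullback g iY iX f) [Flat f] (J : X.IdealSheafData)
    {US : S.Opens} {UT : T.Opens} (hUST : UT ≤ f ⁻¹ᵁ US)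
    {UX : X.Opens} (hUSX : UX ≤ iX ⁻¹ᵁ US) {UY : Y.Opens} (hUY : UY = g ⁻¹ᵁ UX ⊓ iY ⁻¹ᵁ UT)
    (e : UY ≤ g ⁻¹ᵁ UX) (e' : UY ≤ iY ⁻¹ᵁ UT)
    (hUS : IsAffineOpen US) (hUT : IsAffineOpen UT) (hUX : IsAffineOpen UX) :
    IsBCI H.w J hUST hUSX e e' := by
  refine isBCI_affine H J hUST hUSX hUY e e' hUS hUT hUX ?_
  let i1 := algOver f hUST
  let i2 := modOver iX (ClSub.idealMod J) hUSX
  let i4 := modOver iX (Coh.structureModule X) hUSX
  have i3 : Module.Flat Γ(S, US) Γ(T, UT) := f.flat_appLE hUS hUT _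
  exact Module.Flat.lTensor_preserves_injective_linearMap _ (fun a b h => val_injective J h)

theorem isBCI_affine_of_flat_quot (H : IsPullback g iY iX f) (J : X.IdealSheafData)
    [Flat (J.subschemeι ≫ iX)] {US : S.Opens} {UT : T.Opens} (hUST : UT ≤ f ⁻¹ᵁ US)
    {UX : X.Opens} (hUSX : UX ≤ iX ⁻¹ᵁ US) {UY : Y.Opens} (hUY : UY = g ⁻¹ᵁ UX ⊓ iY ⁻¹ᵁ UT)
    (e : UY ≤ g ⁻¹ᵁ UX) (e' : UY ≤ iY ⁻¹ᵁ UT)
    (hUS : IsAffineOpen US) (hUT : IsAffineOpen UT) (hUX : IsAffineOpen UX) :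
    IsBCI H.w J hUST hUSX e e' := by
  refine isBCI_affine H J hUST hUSX hUY e e' hUS hUT hUX ?_
  let i1 := algOver f hUST
  let i2 := modOver iX (ClSub.idealMod J) hUSX
  let i4 := modOver iX (Coh.structureModule X) hUSX
  have hZ : IsAffineOpen (J.subschemeι ⁻¹ᵁ UX) := hUX.preimage J.subschemeι
  have hle : J.subschemeι ⁻¹ᵁ UX ≤ (J.subschemeι ≫ iX) ⁻¹ᵁ US := Scheme.Hom.preimage_mono _ hUSX
  let i5 : Algebra Γ(S, US) Γ(J.subscheme, J.subschemeι ⁻¹ᵁ UX) := algOver (J.subschemeι ≫ iX) hle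
  have i6 : Module.Flat Γ(S, US) Γ(J.subscheme, J.subschemeι ⁻¹ᵁ UX) :=
    (J.subschemeι ≫ iX).flat_appLE hUS hZ hle
  let q : Γ(Coh.structureModule X, UX) →ₗ[Γ(S, US)] Γ(J.subscheme, J.subschemeι ⁻¹ᵁ UX) :=
    { toFun := fun a => J.subschemeι.app UX (a : Γ(X, UX))
      map_add' := fun a b => map_add (J.subschemeι.app UX).hom (a : Γ(X, UX)) b
      map_smul' := fun a m => by
        refine (map_mul (J.subschemeι.app UX).hom (iX.appLE US UX hUSX a) (m : Γ(X, UX))).trans ?_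
        refine congrArg (· * J.subschemeι.app UX (m : Γ(X, UX))) ?_
        change (iX.appLE US UX hUSX ≫ J.subschemeι.app UX) a = (J.subschemeι ≫ iX).appLE US _ hle a
        rw [← Scheme.Hom.appLE_eq_app, Scheme.Hom.appLE_comp_appLE] }
  refine LinearMap.lTensor_injective_of_exact_of_flat q (J.subschemeι_app_surjective ⟨UX, hUX⟩)
    (valL iX J hUSX) (fun a b h => val_injective J h) ?_ Γ(T, UT)
  intro a
  constructor
  · intro ha
    have : (a : Γ(X, UX)) ∈ J.ideal ⟨UX, hUX⟩ := by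
      rw [← J.ker_subschemeι_app ⟨UX, hUX⟩]
      exact ha
    obtain ⟨s, hs⟩ := exists_val_eq J ⟨UX, hUX⟩ this
    exact ⟨s, hs⟩
  · rintro ⟨s, rfl⟩
    exact subschemeι_app_idealModι J UX s

/-- `theta` is an isomorphism for flat morphisms. -/
theorem isIso_theta_of_flat {X Y : Scheme.{u}} (g : Y ⟶ X) [Flat g] (J : X.IdealSheafData) :
    IsIso (theta g J) := by
  have hq : Coh.IsQCoh (ClSub.idealMod J) := Groth.Agent.CohqA.IdealMod.isQCoh_idealMod J
  have hq1 : Coh.IsQCoh ((Scheme.Modules.pullback g).obj (ClSub.idealMod J)) :=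
    Groth.Agent.VarietyB.PullSec.isQCoh_pullback g _ hq
  have hq2 : Coh.IsQCoh (ClSub.idealMod (J.comap g)) := Groth.Agent.CohqA.IdealMod.isQCoh_idealMod _
  refine Groth.Agent.CohqB.AffIso.isIso_of_affine_cover (theta g J) fun y => ?_
  obtain ⟨U, V, hgy, hyV, -, -, e⟩ := exists_affine_le g y ⊤ trivial ⊤ trivial
  have H : IsPullback g (𝟙 Y) (𝟙 X) g := IsPullback.of_vert_isIso ⟨by simp⟩
  have h1 := isBC_affine H (ClSub.idealMod J) hq (US := U.1) (UT := V.1) e (UX := U.1) le_rfl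
    (UY := V.1) (by simp [e]) e le_rfl U.2 V.2 U.2
  have h2 := isBCI_affine_of_flat H J (US := U.1) (UT := V.1) e (UX := U.1) le_rfl
    (UY := V.1) (by simp [e]) e le_rfl U.2 V.2 U.2
  exact ⟨V.1, hyV, V.2, bijective_theta_app h1 h2⟩

/-- `theta` is an isomorphism for base changes, if the subscheme is flat over the base. -/
theorem isIso_theta_of_flat_quot (H : IsPullback g iY iX f) (J : X.IdealSheafData)
    [Flat (J.subschemeι ≫ iX)] : IsIso (theta g J) := by
  have hq : Coh.IsQCoh (ClSub.idealMod J) := Groth.Agent.CohqA.IdealMod.isQCoh_idealMod J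
  have hq1 : Coh.IsQCoh ((Scheme.Modules.pullback g).obj (ClSub.idealMod J)) :=
    Groth.Agent.VarietyB.PullSec.isQCoh_pullback g _ hq
  have hq2 : Coh.IsQCoh (ClSub.idealMod (J.comap g)) := Groth.Agent.CohqA.IdealMod.isQCoh_idealMod _
  refine Groth.Agent.CohqB.AffIso.isIso_of_affine_cover (theta g J) fun y => ?_
  obtain ⟨US, UT, -, hyT, -, -, hUST⟩ := exists_affine_le f (iY y) ⊤ trivial ⊤ trivial
  have hy : g y ∈ iX ⁻¹ᵁ US.1 := by
    change iX (g y) ∈ US.1
    rw [← Scheme.Hom.comp_apply, H.w, Scheme.Hom.comp_apply]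
    exact hUST hyT
  obtain ⟨UX, hxX, hUX⟩ := exists_affine_mem_le _ _ hy
  have h1 := isBC_affine H (ClSub.idealMod J) hq hUST hUX rfl inf_le_left inf_le_right US.2 UT.2 UX.2
  have h2 := isBCI_affine_of_flat_quot H J hUST hUX rfl inf_le_left inf_le_right US.2 UT.2 UX.2
  exact ⟨g ⁻¹ᵁ UX.1 ⊓ iY ⁻¹ᵁ UT.1, ⟨hxX, hyT⟩, isAffineOpen_pull H hUST hUX rfl US.2 UT.2 UX.2,
    bijective_theta_app h1 h2⟩

end BC

end Groth.Agent.Pic13.H945.IdealPull
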