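import Groth.Agent.Pic13.H945.IdealPull
import Groth.Agent.Pic13.H17.Patch
import Groth.Agent.Flat2D.LocalGlobalH
import Groth.Agent.Ega1.QcqsPush

/-!
# Patching squares: the condition on sections, transfer along base change, locality

For `b : X' ⟶ X` and an ideal `I` of `X` the condition `m1` of `Patch.IsPatch` says that
`psi b I : idealMod I ⟶ b_* idealMod (I.comap b)` is an isomorphism.
* `bijective_transfer`: base change of this condition;
* `isPatch_of_cover`: patching squares are local on `X`.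
-/

set_option autoImplicit false
universe u
open CategoryTheory CategoryTheory.Limits AlgebraicGeometry Opposite TopologicalSpace TensorProduct

namespace Groth.Agent.Pic13.H945.PatchBC

open Groth.Agent.Pic13.H945.IdealPull Groth.Agent.Pic13.H17.Patch
open Groth.Agent.Fdesc.LocGen Groth.Agent.Dix.IdealModSec Groth.Agent.Dix.IdealModCartier
open Groth.Agent.Divis.IdealComap Groth.Agent.VarietyB.FlatH0 Groth.Agent.VarietyB.BCAlg

section Mem

variable {X X' : Scheme.{u}}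

theorem mem_iff (J : X.IdealSheafData) {V : X.Opens} (a : Γ(X, V)) :
    Mem J a ↔ ∃ t : Γ(ClSub.idealMod J, V), val J t = a := by
  constructor
  · intro h
    refine exists_val_eq_of_local J V a fun x hx => ?_
    obtain ⟨W, hxW, hW⟩ := exists_affine_mem_le V x hx
    exact ⟨W, hW, hxW, h W hW⟩
  · rintro ⟨t, rfl⟩ W hW
    have h := val_mem J W (res _ hW t)
    rw [val_res] at h
    exact h

variable (b : X' ⟶ X) (I : X.IdealSheafData)

theorem m1_iff (U : X.affineOpens) :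
    (∀ a : Γ(X', b ⁻¹ᵁ U.1), Mem (I.comap b) a → ∃! c : Γ(X, U.1), c ∈ I.ideal U ∧ b.app U.1 c = a) ↔
      Function.Bijective (pullVal b I (le_refl (b ⁻¹ᵁ U.1))) := by
  constructor
  · intro h
    constructor
    · intro s t hst
      apply val_injective
      obtain ⟨c, -, hc⟩ := h (val (I.comap b) (pullVal b I (le_refl (b ⁻¹ᵁ U.1)) s))
        ((mem_iff _ _).mpr ⟨_, rfl⟩)
      have h1 := hc (val I s) ⟨val_mem I U s, by rw [val_pullVal, Scheme.Hom.appLE_eq_app]⟩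
      have h2 := hc (val I t) ⟨val_mem I U t, by rw [hst, val_pullVal, Scheme.Hom.appLE_eq_app]⟩
      rw [h1, h2]
    · intro t
      obtain ⟨c, ⟨hcI, hc⟩, -⟩ := h (val (I.comap b) t) ((mem_iff _ _).mpr ⟨_, rfl⟩)
      obtain ⟨s, rfl⟩ := exists_val_eq I U hcI
      refine ⟨s, val_injective _ ?_⟩
      rw [val_pullVal, Scheme.Hom.appLE_eq_app]
      exact hc
  · intro h a ha
    obtain ⟨t, rfl⟩ := (mem_iff _ _).mp ha
    obtain ⟨s, rfl⟩ := h.2 t
    refine ⟨val I s, ⟨val_mem I U s, by rw [val_pullVal, Scheme.Hom.appLE_eq_app]⟩, ?_⟩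
    rintro c ⟨hcI, hc⟩
    obtain ⟨s', rfl⟩ := exists_val_eq I U hcI
    have : pullVal b I (le_refl (b ⁻¹ᵁ U.1)) s' = pullVal b I (le_refl (b ⁻¹ᵁ U.1)) s := by
      apply val_injective
      rw [val_pullVal, Scheme.Hom.appLE_eq_app]
      exact hc
    rw [h.1 this]

/-- The condition on sections may be checked on an affine open cover. -/
theorem isIso_psi_of_cover [QuasiCompact b] [QuasiSeparated b]
    (h : ∀ x : X, ∃ U : X.affineOpens, x ∈ U.1 ∧ Function.Bijective (pullVal b I (le_refl (b ⁻¹ᵁ U.1)))) :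
    IsIso (psi b I) := by
  have hq : Coh.IsQCoh (ClSub.idealMod I) := Groth.Agent.CohqA.IdealMod.isQCoh_idealMod I
  have hq1 : Coh.IsQCoh ((Scheme.Modules.pushforward b).obj (ClSub.idealMod (I.comap b))) :=
    Groth.Agent.Ega1.QcqsPush.isQCoh_pushforward b _ (Groth.Agent.CohqA.IdealMod.isQCoh_idealMod _)
  refine Groth.Agent.CohqB.AffIso.isIso_of_affine_cover (psi b I) fun x => ?_
  obtain ⟨U, hx, hU⟩ := h x
  exact ⟨U.1, hx, U.2, hU⟩

theorem bijective_of_isIso_psi [IsIso (psi b I)] (U : X.Opens) :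
    Function.Bijective (pullVal b I (le_refl (b ⁻¹ᵁ U))) := by
  have h1 : IsIso (psi b I) := inferInstance
  rw [Scheme.Modules.Hom.isIso_iff_isIso_app] at h1
  exact (ConcreteCategory.isIso_iff_bijective _).mp (h1 U)

end Mem

section Transfer

variable {X X' Y Y' S T : Scheme.{u}} {f : T ⟶ S} {g : Y ⟶ X} {g' : Y' ⟶ X'} {b : X' ⟶ X} {c : Y' ⟶ Y}
  {iX : X ⟶ S} {iY : Y ⟶ T}

/-- Functions in equal ideals. -/
lemma exists_val_of_eq {J K : X.IdealSheafData} (h : J = K) {U : X.Opens} (s : Γ(ClSub.idealMod J, U)) :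
    ∃ t : Γ(ClSub.idealMod K, U), val K t = val J s := by
  subst h
  exact ⟨s, rfl⟩

/-- Base change of the condition on sections. -/
theorem bijective_transfer (w : g ≫ iX = iY ≫ f) (w' : g' ≫ b = c ≫ g) (I : X.IdealSheafData)
    {US : S.Opens} {UT : T.Opens} (hUST : UT ≤ f ⁻¹ᵁ US) {UX : X.Opens} (hUSX : UX ≤ iX ⁻¹ᵁ US)
    {UY : Y.Opens} (e : UY ≤ g ⁻¹ᵁ UX) (e' : UY ≤ iY ⁻¹ᵁ UT)
    (w1 : g' ≫ (b ≫ iX) = (c ≫ iY) ≫ f) (h1 : b ⁻¹ᵁ UX ≤ (b ≫ iX) ⁻¹ᵁ US)
    (h2 : c ⁻¹ᵁ UY ≤ g' ⁻¹ᵁ (b ⁻¹ᵁ UX)) (h3 : c ⁻¹ᵁ UY ≤ (c ≫ iY) ⁻¹ᵁ UT)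
    (hb : Function.Bijective (pullVal b I (le_refl (b ⁻¹ᵁ UX))))
    (hI : IsBCI w I hUST hUSX e e') (hK : IsBCI w1 (I.comap b) hUST h1 h2 h3) :
    Function.Bijective (pullVal c (I.comap g) (le_refl (c ⁻¹ᵁ UY))) := by
  let i1 := algOver f hUST
  let i2 := modOver iX (ClSub.idealMod I) hUSX
  let i3 := modOver iY (ClSub.idealMod (I.comap g)) e'
  let i4 := modOver (b ≫ iX) (ClSub.idealMod (I.comap b)) h1
  let i5 := modOver (c ≫ iY) (ClSub.idealMod ((I.comap b).comap g')) h3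
  have hcomp : (I.comap b).comap g' = (I.comap g).comap c := by
    rw [← Scheme.IdealSheafData.comap_comp, ← Scheme.IdealSheafData.comap_comp, w']
  let p : Γ(ClSub.idealMod I, UX) →ₗ[Γ(S, US)] Γ(ClSub.idealMod (I.comap b), b ⁻¹ᵁ UX) :=
    { toFun := pullVal b I (le_refl (b ⁻¹ᵁ UX))
      map_add' := map_add (pullAdd b I (le_refl (b ⁻¹ᵁ UX)))
      map_smul' := fun a m => by
        refine (pullVal_smul b I (le_refl (b ⁻¹ᵁ UX)) (iX.appLE US UX hUSX a) m).trans ?_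
        refine congrArg (fun r : Γ(X', b ⁻¹ᵁ UX) => r • pullVal b I (le_refl (b ⁻¹ᵁ UX)) m) ?_
        change (iX.appLE US UX hUSX ≫ b.appLE UX (b ⁻¹ᵁ UX) (le_refl _)) a = (b ≫ iX).appLE US _ h1 a
        rw [Scheme.Hom.appLE_comp_appLE] }
  have hp : Function.Bijective (p.lTensor Γ(T, UT)) :=
    (LinearEquiv.lTensor Γ(T, UT) (LinearEquiv.ofBijective p hb)).bijective
  -- the square
  have hsq : ∀ x : Γ(T, UT) ⊗[Γ(S, US)] Γ(ClSub.idealMod I, UX),
      (c.appLE UY (c ⁻¹ᵁ UY) (le_refl _) (val (I.comap g) (bc (thS w I hUST hUSX e e') x)) : Γ(Y', c ⁻¹ᵁ UY)) =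
        val ((I.comap b).comap g') (bc (thS w1 (I.comap b) hUST h1 h2 h3) (p.lTensor Γ(T, UT) x)) := by
    intro x
    induction x with
    | zero =>
      rw [map_zero, map_zero, map_zero, val_zero, val_zero, map_zero]
    | add x y hx hy =>
      rw [map_add, map_add, map_add, val_add, val_add, map_add, hx, hy]
    | tmul r s =>
      rw [LinearMap.lTensor_tmul, bc_tmul, bc_tmul]
      refine (congrArg (c.appLE UY (c ⁻¹ᵁ UY) (le_refl _)) (val_smul (I.comap g) (iY.appLE UT UY e' r) _)).trans ?_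
      refine Eq.trans ?_ (val_smul ((I.comap b).comap g') ((c ≫ iY).appLE UT (c ⁻¹ᵁ UY) h3 r) _).symm
      rw [map_mul]
      refine congr_arg₂ (· * ·) ?_ ?_
      · change (iY.appLE UT UY e' ≫ c.appLE UY (c ⁻¹ᵁ UY) (le_refl _)) r = (c ≫ iY).appLE UT _ h3 r
        rw [Scheme.Hom.appLE_comp_appLE]
      · refine (congrArg (c.appLE UY (c ⁻¹ᵁ UY) (le_refl _)) (val_pullVal g I e s)).trans ?_
        refine Eq.trans ?_ (val_pullVal g' (I.comap b) h2 (pullVal b I (le_refl (b ⁻¹ᵁ UX)) s)).symm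
        rw [val_pullVal]
        change (g.appLE UX UY e ≫ c.appLE UY (c ⁻¹ᵁ UY) (le_refl _)) (val I s) =
          (b.appLE UX (b ⁻¹ᵁ UX) (le_refl _) ≫ g'.appLE (b ⁻¹ᵁ UX) (c ⁻¹ᵁ UY) h2) (val I s)
        rw [Scheme.Hom.appLE_comp_appLE, Scheme.Hom.appLE_comp_appLE]
        simp only [w']
  constructor
  · intro s t hst
    obtain ⟨x, rfl⟩ := hI.2 s
    obtain ⟨y, rfl⟩ := hI.2 t
    have h4 : val ((I.comap b).comap g') (bc (thS w1 (I.comap b) hUST h1 h2 h3) (p.lTensor Γ(T, UT) x)) =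
        val ((I.comap b).comap g') (bc (thS w1 (I.comap b) hUST h1 h2 h3) (p.lTensor Γ(T, UT) y)) := by
      rw [← hsq, ← hsq]
      refine (val_pullVal c (I.comap g) (le_refl (c ⁻¹ᵁ UY)) _).symm.trans
        (Eq.trans ?_ (val_pullVal c (I.comap g) (le_refl (c ⁻¹ᵁ UY)) _))
      exact congrArg (val ((I.comap g).comap c)) hst
    rw [hp.1 (hK.1 (val_injective _ h4))]
  · intro t
    obtain ⟨t', ht'⟩ := exists_val_of_eq hcomp.symm t
    obtain ⟨z, hz⟩ := hK.2 t'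
    obtain ⟨x, rfl⟩ := hp.2 z
    refine ⟨bc (thS w I hUST hUSX e e') x, val_injective _ ?_⟩
    rw [val_pullVal]
    refine (hsq x).trans ?_
    rw [← ht']
    exact congrArg (val ((I.comap b).comap g')) hz

end Transfer

section Iso

variable {X X' Y Y' : Scheme.{u}} {g : Y ⟶ X} {g' : Y' ⟶ X'} {b : X' ⟶ X} {c : Y' ⟶ Y}

theorem compl_support_comap (I : X.IdealSheafData) (g : Y ⟶ X) :
    (I.comap g).support.compl = g ⁻¹ᵁ I.support.compl := by
  rw [Scheme.IdealSheafData.support_comap]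
  ext
  rfl

/-- Base change of an isomorphism over an open. -/
theorem isIso_restrict (H : IsPullback g' c b g) {U : X.Opens} {V : Y.Opens} (e : V ≤ g ⁻¹ᵁ U)
    (h : IsIso (b ∣_ U)) : IsIso (c ∣_ V) := by
  have h1 := Scheme.Hom.isPullback_resLE H (US := U) (UT := V) e (UX := b ⁻¹ᵁ U) le_rfl
    (UY := c ⁻¹ᵁ V) (by
      rw [← Scheme.Hom.comp_preimage, H.w, Scheme.Hom.comp_preimage]
      exact (inf_eq_right.mpr (Scheme.Hom.preimage_mono c e)).symm)
  have h2 : MorphismProperty.isomorphisms Scheme.{u} (c.resLE V (c ⁻¹ᵁ V) le_rfl) := by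
    refine MorphismProperty.of_isPullback h1 ?_
    rw [Scheme.Hom.resLE_eq_morphismRestrict]
    exact h
  rw [Scheme.Hom.resLE_eq_morphismRestrict] at h2
  exact h2

theorem isIso_restrict_of_le (b : X' ⟶ X) {U V : X.Opens} (e : V ≤ U) (h : IsIso (b ∣_ U)) : IsIso (b ∣_ V) :=
  isIso_restrict (g' := 𝟙 X') (g := 𝟙 X) (IsPullback.of_horiz_isIso ⟨by simp⟩) e h

/-- An isomorphism over an open `W` may be tested locally. -/
theorem isIso_restrict_of_local (b : X' ⟶ X) (W : X.Opens)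
    (h : ∀ x ∈ W, ∃ U : X.Opens, x ∈ U ∧ U ≤ W ∧ IsIso (b ∣_ U)) : IsIso (b ∣_ W) := by
  change (MorphismProperty.isomorphisms Scheme.{u}) _
  refine IsZariskiLocalAtTarget.of_forall_exists_morphismRestrict fun x => ?_
  obtain ⟨U, hxU, hUW, hU⟩ := h x.1 x.2
  refine ⟨W.ι ⁻¹ᵁ U, hxU, ?_⟩
  have h1 := (MorphismProperty.isomorphisms Scheme.{u}).arrow_mk_iso_iff (morphismRestrictRestrict b W (W.ι ⁻¹ᵁ U))
  rw [h1]
  have h2 : W.ι ''ᵁ (W.ι ⁻¹ᵁ U) = U := by
    rw [Scheme.Hom.image_preimage_eq_opensRange_inf, Scheme.Opens.opensRange_ι]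
    exact inf_eq_right.mpr hUW
  rw [h2]
  exact hU

/-- Being an isomorphism over an open in an open immersion. -/
theorem isIso_restrict_image [IsOpenImmersion g] (H : IsPullback g' c b g) {V : Y.Opens}
    (h : IsIso (c ∣_ V)) : IsIso (b ∣_ (g ''ᵁ V)) := by
  have h1 := Scheme.Hom.isPullback_resLE H (US := g ''ᵁ V) (UT := V) (g.preimage_image_eq V).ge
    (UX := b ⁻¹ᵁ (g ''ᵁ V)) le_rfl (UY := c ⁻¹ᵁ V) (by
      rw [← Scheme.Hom.comp_preimage, H.w, Scheme.Hom.comp_preimage, Scheme.Hom.preimage_image_eq, inf_idem])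
  have hg' : IsOpenImmersion g' := MorphismProperty.of_isPullback H.flip ‹IsOpenImmersion g›
  have h3 : IsIso (g.resLE (g ''ᵁ V) V (g.preimage_image_eq V).ge) := by
    have h7 : IsOpenImmersion (g.resLE (g ''ᵁ V) V (g.preimage_image_eq V).ge ≫ (g ''ᵁ V).ι) := by
      rw [Scheme.Hom.resLE_comp_ι]
      infer_instance
    have := IsOpenImmersion.of_comp (g.resLE (g ''ᵁ V) V (g.preimage_image_eq V).ge) (g ''ᵁ V).ι
    have hs : Surjective (g.resLE (g ''ᵁ V) V (g.preimage_image_eq V).ge) := by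
      refine ⟨fun x => ?_⟩
      obtain ⟨y, hy, hyx⟩ := x.2
      refine ⟨⟨y, hy⟩, Subtype.ext ?_⟩
      rw [Scheme.Hom.coe_resLE_apply]
      exact hyx
    exact (isIso_iff_isOpenImmersion_and_epi_base _).mpr ⟨this, (TopCat.epi_iff_surjective _).mpr hs.1⟩
  have h4 : IsIso (g'.resLE (b ⁻¹ᵁ (g ''ᵁ V)) (c ⁻¹ᵁ V) (by
      rw [← Scheme.Hom.comp_preimage, H.w, Scheme.Hom.comp_preimage, Scheme.Hom.preimage_image_eq])) :=
    h1.isIso_fst_of_isIso
  have h5 := h1.w
  rw [Scheme.Hom.resLE_eq_morphismRestrict, Scheme.Hom.resLE_eq_morphismRestrict] at h5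
  have h6 : IsIso (c ∣_ V ≫ g.resLE (g ''ᵁ V) V (g.preimage_image_eq V).ge) := inferInstance
  rw [← h5] at h6
  exact @IsIso.of_isIso_comp_left _ _ _ _ _ _ _ h4 h6

end Iso

section Open

variable {X X' Y Y' : Scheme.{u}} {g : Y ⟶ X} {g' : Y' ⟶ X'} {b : X' ⟶ X} {c : Y' ⟶ Y}

/-- Sections of an ideal over an open of an open immersion. -/
theorem bijective_pullVal_of_isOpenImmersion (j : Y ⟶ X) [IsOpenImmersion j] (I : X.IdealSheafData)
    {U : X.Opens} {V : Y.Opens} (e : V ≤ j ⁻¹ᵁ U) (h : U = j ''ᵁ V) : Function.Bijective (pullVal j I e) := by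
  subst h
  have hj : Function.Bijective (j.appLE (j ''ᵁ V) V e) := by
    rw [← Scheme.Hom.appIso_hom']
    exact ConcreteCategory.bijective_of_isIso (j.appIso V).hom
  constructor
  · intro s t hst
    apply val_injective
    apply hj.1
    rw [← val_pullVal, ← val_pullVal, hst]
  · intro t
    obtain ⟨a, ha⟩ := hj.2 (val (I.comap j) t)
    obtain ⟨s, rfl⟩ := exists_val_eq_of_local I (j ''ᵁ V) a (by
      rintro _ ⟨y, hy, rfl⟩
      obtain ⟨V', hyV', hV'⟩ := exists_affine_mem_le V y hy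
      have hU'a : IsAffineOpen (j ''ᵁ V'.1) := V'.2.image_of_isOpenImmersion j
      have hU' : j ''ᵁ V'.1 ≤ j ''ᵁ V := Scheme.Hom.image_mono j hV'
      refine ⟨⟨j ''ᵁ V'.1, hU'a⟩, hU', ⟨y, hyV', rfl⟩, ?_⟩
      have e1 : V'.1 ≤ j ⁻¹ᵁ (j ''ᵁ V'.1) := (j.preimage_image_eq V'.1).ge
      have hj' : Function.Bijective (j.appLE (j ''ᵁ V'.1) V'.1 e1) := by
        rw [← Scheme.Hom.appIso_hom']
        exact ConcreteCategory.bijective_of_isIso (j.appIso V'.1).hom
      have h1 : val (I.comap j) (res _ hV' t) = j.appLE (j ''ᵁ V'.1) V'.1 e1 (ores hU' a) := by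
        rw [val_res, ← ha]
        change (j.appLE (j ''ᵁ V) V e ≫ Y.presheaf.map (homOfLE hV').op) a =
          (X.presheaf.map (homOfLE hU').op ≫ j.appLE (j ''ᵁ V'.1) V'.1 e1) a
        rw [Scheme.Hom.map_appLE, Scheme.Hom.appLE_map]
      have h2 := val_mem (I.comap j) V' (res _ hV' t)
      rw [h1, ideal_comap I j ⟨j ''ᵁ V'.1, hU'a⟩ V' e1] at h2
      obtain ⟨a', ha', h3⟩ := (Ideal.mem_map_iff_of_surjective _ hj'.2).mp h2
      rw [← hj'.1 h3]
      exact ha')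
    exact ⟨s, val_injective _ ((val_pullVal j I e s).trans ha)⟩

/-- The condition on sections over an open of an open immersion. -/
theorem bijective_of_isOpenImmersion (H : IsPullback g' c b g) [IsOpenImmersion g] (I : X.IdealSheafData)
    (V : Y.Opens) (h : Function.Bijective (pullVal c (I.comap g) (le_refl (c ⁻¹ᵁ V)))) :
    Function.Bijective (pullVal b I (le_refl (b ⁻¹ᵁ (g ''ᵁ V)))) := by
  have hg' : IsOpenImmersion g' := MorphismProperty.of_isPullback H.flip ‹IsOpenImmersion g›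
  have him : b ⁻¹ᵁ (g ''ᵁ V) = g' ''ᵁ (c ⁻¹ᵁ V) :=
    (IsOpenImmersion.image_preimage_eq_preimage_image_of_isPullback H.flip V).symm
  have e : V ≤ g ⁻¹ᵁ (g ''ᵁ V) := (g.preimage_image_eq V).ge
  have e' : c ⁻¹ᵁ V ≤ g' ⁻¹ᵁ (b ⁻¹ᵁ (g ''ᵁ V)) := by
    rw [← Scheme.Hom.comp_preimage, H.w, Scheme.Hom.comp_preimage]
    exact Scheme.Hom.preimage_mono c e
  have h1 := bijective_pullVal_of_isOpenImmersion g I e rfl
  have h2 := bijective_pullVal_of_isOpenImmersion g' (I.comap b) e' him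
  have hcomp : (I.comap b).comap g' = (I.comap g).comap c := by
    rw [← Scheme.IdealSheafData.comap_comp, ← Scheme.IdealSheafData.comap_comp, H.w]
  have hsq : ∀ s : Γ(ClSub.idealMod I, g ''ᵁ V),
      val ((I.comap b).comap g') (pullVal g' (I.comap b) e' (pullVal b I (le_refl (b ⁻¹ᵁ (g ''ᵁ V))) s)) =
        val ((I.comap g).comap c) (pullVal c (I.comap g) (le_refl (c ⁻¹ᵁ V)) (pullVal g I e s)) := by
    intro s
    rw [val_pullVal, val_pullVal, val_pullVal, val_pullVal]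
    change (b.appLE (g ''ᵁ V) _ (le_refl _) ≫ g'.appLE (b ⁻¹ᵁ (g ''ᵁ V)) (c ⁻¹ᵁ V) e') (val I s) =
      (g.appLE (g ''ᵁ V) V e ≫ c.appLE V _ (le_refl _)) (val I s)
    rw [Scheme.Hom.appLE_comp_appLE, Scheme.Hom.appLE_comp_appLE]
    simp only [H.w]
  constructor
  · intro s t hst
    apply h1.1
    apply h.1
    apply val_injective
    rw [← hsq, ← hsq, hst]
  · intro t
    obtain ⟨t', ht'⟩ := exists_val_of_eq hcomp (pullVal g' (I.comap b) e' t)
    obtain ⟨z, hz⟩ := h.2 t'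
    obtain ⟨s, rfl⟩ := h1.2 z
    refine ⟨s, h2.1 (val_injective _ ?_)⟩
    rw [hsq, hz, ht']

end Open

section Coho

open Groth.Agent.Flat2D.LocalGlobalH

variable {X X' Y Y' : Scheme.{u}} {g : Y ⟶ X} {g' : Y' ⟶ X'} {b : X' ⟶ X} {c : Y' ⟶ Y}

/-- Flat base change of the vanishing of cohomology. -/
theorem HHon_of_flat (H : IsPullback g' c b g) [Flat g] [QuasiCompact b] [IsSeparated b] (F : X'.Modules)
    (hF : Coh.IsQCoh F) (n : ℕ) {U : X.Opens} (hU : IsAffineOpen U) {V : Y.Opens} (hV : IsAffineOpen V)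
    (e : V ≤ g ⁻¹ᵁ U) (h : Subsingleton (Coh.HHon X' F (b ⁻¹ᵁ U) (n + 1))) :
    Subsingleton (Coh.HHon Y' ((Scheme.Modules.pullback g').obj F) (c ⁻¹ᵁ V) (n + 1)) := by
  have i1 : IsAffine U := hU
  have i2 : IsAffine V := hV
  have h1 := Scheme.Hom.isPullback_resLE H (US := U) (UT := V) e (UX := b ⁻¹ᵁ U) le_rfl
    (UY := c ⁻¹ᵁ V) (by
      rw [← Scheme.Hom.comp_preimage, H.w, Scheme.Hom.comp_preimage]
      exact (inf_eq_right.mpr (Scheme.Hom.preimage_mono c e)).symm)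
  have h2 : Subsingleton (Coh.HH _ ((Scheme.Modules.pullback (b ⁻¹ᵁ U).ι).obj F) (n + 1)) :=
    (HU_iff_pullback (b ⁻¹ᵁ U).ι F _ (by simp) _).1 ((HU_iff_HHon F _ _).2 h)
  have i3 : QuasiCompact (b.resLE U (b ⁻¹ᵁ U) le_rfl) := by
    rw [Scheme.Hom.resLE_eq_morphismRestrict]
    infer_instance
  have h3 := HH_of_flat h1 _ (Groth.Agent.VarietyB.PullSec.isQCoh_pullback _ _ hF) n h2
  have e1 := (Scheme.Modules.pullbackComp _ (b ⁻¹ᵁ U).ι).app F ≪≫
    (Scheme.Modules.pullbackCongr (Scheme.Hom.resLE_comp_ι g' (U := b ⁻¹ᵁ U) (V := c ⁻¹ᵁ V) (by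
      rw [← Scheme.Hom.comp_preimage, H.w, Scheme.Hom.comp_preimage]
      exact Scheme.Hom.preimage_mono c e))).app F ≪≫
    ((Scheme.Modules.pullbackComp (c ⁻¹ᵁ V).ι g').app F).symm
  exact (HU_iff_HHon _ _ _).1 ((HU_iff_pullback (c ⁻¹ᵁ V).ι _ _ (by simp) _).2
    (subsingleton_HH_of_iso e1 _ h3))

/-- Cohomology over an open of an open immersion. -/
theorem HHon_image_iff (g' : Y' ⟶ X') [IsOpenImmersion g'] (F : X'.Modules) (n : ℕ) (V : Y'.Opens) :
    Subsingleton (Coh.HHon Y' ((Scheme.Modules.pullback g').obj F) V n) ↔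
      Subsingleton (Coh.HHon X' F (g' ''ᵁ V) n) := by
  rw [← HU_iff_HHon, ← HU_iff_HHon, HU_iff_pullback (V.ι ≫ g') F (g' ''ᵁ V) (by simp) n,
    HU_iff_pullback V.ι _ V (by simp) n]
  exact ⟨subsingleton_HH_of_iso ((Scheme.Modules.pullbackComp V.ι g').app F) n,
    subsingleton_HH_of_iso ((Scheme.Modules.pullbackComp V.ι g').app F).symm n⟩

theorem HHon_congr {F F' : X.Modules} (e : F ≅ F') (n : ℕ) (U : X.Opens)
    (h : Subsingleton (Coh.HHon X F U n)) : Subsingleton (Coh.HHon X F' U n) := by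
  rw [← HU_iff_HHon, HU_iff_pullback U.ι _ U (by simp) n] at h ⊢
  exact subsingleton_HH_of_iso ((Scheme.Modules.pullback U.ι).mapIso e) n h

/-- Powers of the inverse image ideals. -/
theorem pow_comap_eq (w : g' ≫ b = c ≫ g) (I : X.IdealSheafData) (m : ℕ) :
    ((I.comap b) ^ m).comap g' = ((I.comap g).comap c) ^ m := by
  rw [Groth.Agent.Divis.IdealComap.comap_pow, ← Scheme.IdealSheafData.comap_comp, w,
    Scheme.IdealSheafData.comap_comp]

end Coho

section Main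

variable {X X' Y Y' : Scheme.{u}} {g : Y ⟶ X} {g' : Y' ⟶ X'} {b : X' ⟶ X} {c : Y' ⟶ Y}

/-- Patching squares are local: it is enough to test an affine open cover. -/
theorem isPatch_of_local (b : X' ⟶ X) [QuasiCompact b] [IsSeparated b] (I : X.IdealSheafData)
    (hiso : IsIso (b ∣_ I.support.compl))
    (h : ∀ x : X, ∃ U : X.affineOpens, x ∈ U.1 ∧ Function.Bijective (pullVal b I (le_refl (b ⁻¹ᵁ U.1))) ∧
      ∀ n m : ℕ, 0 < m → Subsingleton (Coh.HHon X' (ClSub.idealMod ((I.comap b) ^ m)) (b ⁻¹ᵁ U.1) (n + 1))) :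
    IsPatch b I where
  iso := hiso
  m1 U := by
    have := isIso_psi_of_cover b I fun x => by
      obtain ⟨U, hx, hU, -⟩ := h x
      exact ⟨U, hx, hU⟩
    exact (m1_iff b I U).mpr (bijective_of_isIso_psi b I U.1)
  m2 U j m hj hm := by
    obtain ⟨n, rfl⟩ := Nat.exists_eq_succ_of_ne_zero hj.ne'
    exact Groth.Agent.Flat2D.LocalGlobalH.HHon_of_local b _
      (Groth.Agent.CohqA.IdealMod.isQCoh_idealMod _) n ⊤ (fun x _ => by
        obtain ⟨U, hx, -, hU⟩ := h x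
        exact ⟨U.1, U.2, hx, hU n m hm⟩) U.1 U.2 le_top

/-- (BC) Flat base change of patching squares. -/
theorem isPatch_of_flat (H : IsPullback g' c b g) [Flat g] [QuasiCompact b] [IsSeparated b]
    {I : X.IdealSheafData} (h : IsPatch b I) : IsPatch c (I.comap g) := by
  have i1 : QuasiCompact c := MorphismProperty.of_isPullback H ‹QuasiCompact b›
  have i2 : IsSeparated c := MorphismProperty.of_isPullback H ‹IsSeparated b›
  have i3 : Flat g' := MorphismProperty.of_isPullback H.flip ‹Flat g›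
  refine isPatch_of_local c (I.comap g) (isIso_restrict H (compl_support_comap I g).le h.iso) fun y => ?_
  obtain ⟨U, V, -, hyV, -, -, e⟩ := exists_affine_le g y ⊤ trivial ⊤ trivial
  refine ⟨V, hyV, ?_, fun n m hm => ?_⟩
  · have H0 : IsPullback g (𝟙 Y) (𝟙 X) g := IsPullback.of_vert_isIso ⟨by simp⟩
    have H1 : IsPullback g' (c ≫ 𝟙 Y) (b ≫ 𝟙 X) g := by simpa using H
    have hcU : c ⁻¹ᵁ V.1 = g' ⁻¹ᵁ (b ⁻¹ᵁ U.1) ⊓ (c ≫ 𝟙 Y) ⁻¹ᵁ V.1 := by
      rw [Category.comp_id, ← Scheme.Hom.comp_preimage, H.w, Scheme.Hom.comp_preimage]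
      exact (inf_eq_right.mpr (Scheme.Hom.preimage_mono c e)).symm
    have h1 := isBCI_affine_of_flat H0 I (US := U.1) (UT := V.1) e (UX := U.1) le_rfl
      (UY := V.1) (by simp [e]) e le_rfl U.2 V.2 U.2
    have h2 := isBC_of_isQuasiSeparated H1 (ClSub.idealMod (I.comap b))
      (Groth.Agent.CohqA.IdealMod.isQCoh_idealMod _) (US := U.1) (UT := V.1) e (UX := b ⁻¹ᵁ U.1)
      (by simp) hcU (hcU.le.trans inf_le_left) (hcU.le.trans inf_le_right) U.2 V.2
      (QuasiCompact.isCompact_preimage (f := b) U.1.1 U.1.2 U.2.isCompact)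
      (b.isQuasiSeparated_preimage U.2.isQuasiSeparated)
    have h3 : IsIso (theta g' (I.comap b)) := isIso_theta_of_flat g' _
    rw [Scheme.Modules.Hom.isIso_iff_isIso_app] at h3
    exact bijective_transfer H0.w H.w I (US := U.1) (UT := V.1) e (UX := U.1) le_rfl (UY := V.1) e le_rfl
      H1.w (by simp) (hcU.le.trans inf_le_left) (hcU.le.trans inf_le_right)
      ((m1_iff b I U).mp (h.m1 U)) h1
      (isBCI_of_isBC h2 ((ConcreteCategory.isIso_iff_bijective _).mp (h3 _)))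
  · have h1 := HHon_of_flat H (ClSub.idealMod ((I.comap b) ^ m))
      (Groth.Agent.CohqA.IdealMod.isQCoh_idealMod _) n U.2 V.2 e (h.m2 U (n + 1) m (Nat.succ_pos n) hm)
    have h3 : IsIso (theta g' ((I.comap b) ^ m)) := isIso_theta_of_flat g' _
    rw [← pow_comap_eq H.w]
    exact HHon_congr (asIso (theta g' ((I.comap b) ^ m))) _ _ h1

/-- Patching squares are local on the base for the Zariski topology. -/
theorem isPatch_of_cover (b : X' ⟶ X) [QuasiCompact b] [IsSeparated b] (I : X.IdealSheafData)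
    (h : ∀ x : X, ∃ (Y Y' : Scheme.{u}) (j : Y ⟶ X) (j' : Y' ⟶ X') (c : Y' ⟶ Y) (_ : IsOpenImmersion j)
      (_ : IsPullback j' c b j), x ∈ Set.range j ∧ IsPatch c (I.comap j)) : IsPatch b I := by
  refine isPatch_of_local b I (isIso_restrict_of_local b _ fun x hx => ?_) fun x => ?_
  · obtain ⟨Y, Y', j, j', c, hj, H, ⟨y, rfl⟩, hc⟩ := h x
    refine ⟨j ''ᵁ (I.comap j).support.compl, ⟨y, ?_, rfl⟩, ?_, isIso_restrict_image H hc.iso⟩
    · rw [compl_support_comap]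
      exact hx
    · rw [compl_support_comap]
      exact j.image_preimage_le _
  · obtain ⟨Y, Y', j, j', c, hj, H, ⟨y, rfl⟩, hc⟩ := h x
    have hj' : IsOpenImmersion j' := MorphismProperty.of_isPullback H.flip hj
    obtain ⟨V, hyV, -⟩ := exists_affine_mem_le (⊤ : Y.Opens) y trivial
    refine ⟨⟨j ''ᵁ V.1, V.2.image_of_isOpenImmersion j⟩, ⟨y, hyV, rfl⟩,
      bijective_of_isOpenImmersion H I V.1 ((m1_iff c (I.comap j) V).mp (hc.m1 V)), fun n m hm => ?_⟩
    have h1 := hc.m2 V (n + 1) m (Nat.succ_pos n) hm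
    have h3 : IsIso (theta j' ((I.comap b) ^ m)) := isIso_theta_of_flat j' _
    rw [← pow_comap_eq H.w] at h1
    have h2 := (HHon_image_iff j' _ _ _).mp (HHon_congr (asIso (theta j' ((I.comap b) ^ m))).symm _ _ h1)
    rw [IsOpenImmersion.image_preimage_eq_preimage_image_of_isPullback H.flip V.1] at h2
    exact h2

end Main

end Groth.Agent.Pic13.H945.PatchBC
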