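import Groth.Agent.Pic13.H945.PatchBC
import Groth.Agent.Flat2D.PicZSch
import Groth.Agent.Models2.FlatIso
import Groth.Agent.Ega3B.FlatRestrict
import Groth.Agent.PerfB.StructFlat
import Mathlib.AlgebraicGeometry.Morphisms.Finite

/-!
# Base change of patching squares which are flat over a base

`b : X' ⟶ X` over `S` and `IsPatch b I`, with `V(I)` and `V(I · O_X')` flat over `S`, and either `b` affine, or `X'` flat
over `S` and `I · O_X'` effective Cartier.  Then for every `T ⟶ S` the base change is again a patching square.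
-/

set_option autoImplicit false
universe u
open CategoryTheory CategoryTheory.Limits AlgebraicGeometry Opposite TopologicalSpace TensorProduct

namespace Groth.Agent.Pic13.H945.PatchRBC

open Groth.Agent.Pic13.H945.IdealPull Groth.Agent.Pic13.H945.PatchBC Groth.Agent.Pic13.H17.Patch
open Groth.Agent.Fdesc.LocGen Groth.Agent.Dix.IdealModSec Groth.Agent.Dix.IdealModCartier
open Groth.Agent.Divis.IdealComap Groth.Agent.VarietyB.FlatH0 Groth.Agent.VarietyB.BCAlg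

section Prelim

theorem isFlatOver_of_isInvertible {X S : Scheme.{u}} (f : X ⟶ S) [Flat f] {L : X.Modules}
    (hL : PicF.IsInvertible L) : FlatMod.IsFlatOver f L := by
  intro x
  obtain ⟨U, hxU, ⟨e⟩⟩ := hL x
  have h1 : FlatMod.IsFlatOver (U.ι ≫ f) (Coh.structureModule (U : Scheme.{u})) :=
    PerfB.StructFlat.isFlatOver_structure _
  have h2 := Models2.FlatIso.isFlatOver_of_iso (U.ι ≫ f) e.symm h1 ⟨x, hxU⟩
  exact (Ega3B.FlatRestrict.isFlatOverAt_restrict_iff_comp f U.ι L ⟨x, hxU⟩).1 h2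

theorem isPullback_comap {X Y : Scheme.{u}} (I : Y.IdealSheafData) (f : X ⟶ Y) :
    ∃ k : (I.comap f).subscheme ⟶ I.subscheme, IsPullback (I.comap f).subschemeι k f I.subschemeι := by
  refine ⟨(I.comapIso f).hom ≫ pullback.snd _ _, ?_⟩
  exact IsPullback.of_iso_pullback ⟨by simp⟩ (I.comapIso f) (by simp) rfl

theorem flat_of_comp_mono {X Y Z : Scheme.{u}} (h : X ⟶ Y) (j : Y ⟶ Z) [Mono j] (H : Flat (h ≫ j)) :
    Flat h := by
  have h1 : IsPullback (𝟙 X) h (h ≫ j) j :=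
    ⟨⟨by simp⟩, ⟨PullbackCone.IsLimit.mk _ (fun s => s.fst) (fun s => by simp)
      (fun s => by rw [← cancel_mono j]; simpa using s.condition) (fun s m h1 h2 => by simpa using h1)⟩⟩
  exact MorphismProperty.of_isPullback h1 H

end Prelim

variable {X X' Y Y' S T : Scheme.{u}} {f : T ⟶ S} {g : Y ⟶ X} {g' : Y' ⟶ X'} {b : X' ⟶ X} {c : Y' ⟶ Y}
  {iX : X ⟶ S} {iY : Y ⟶ T}

/-- Flatness of a closed subscheme over the base, after restriction to opens. -/
theorem flat_comap_resLE (I : X.IdealSheafData) [Flat (I.subschemeι ≫ iX)] {US : S.Opens} {UX : X.Opens}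
    (e : UX ≤ iX ⁻¹ᵁ US) : Flat ((I.comap UX.ι).subschemeι ≫ iX.resLE US UX e) := by
  refine flat_of_comp_mono _ US.ι ?_
  obtain ⟨k, hk⟩ := isPullback_comap I UX.ι
  have h1 : IsOpenImmersion k := MorphismProperty.of_isPullback hk inferInstance
  rw [Category.assoc, Scheme.Hom.resLE_comp_ι, ← Category.assoc, hk.w, Category.assoc]
  infer_instance

/-- The affine case. -/
theorem isPatch_affine [IsAffine S] [IsAffine T] [IsAffine X] (H : IsPullback g iY iX f)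
    (H' : IsPullback g' c b g) [QuasiCompact b] [IsSeparated b] {I : X.IdealSheafData} (h : IsPatch b I)
    [Flat (I.subschemeι ≫ iX)] [Flat ((I.comap b).subschemeι ≫ b ≫ iX)]
    (hb : IsAffineHom b ∨ (Flat (b ≫ iX) ∧ BlowUp.IsEffCartierIdeal (I.comap b))) : IsPatch c (I.comap g) := by
  have i1 : QuasiCompact c := MorphismProperty.of_isPullback H' ‹QuasiCompact b›
  have i2 : IsSeparated c := MorphismProperty.of_isPullback H' ‹IsSeparated b›
  have hYa : IsAffine Y := by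
    have h1 : IsAffineHom iX := inferInstance
    have : IsAffineHom iY := MorphismProperty.of_isPullback H h1
    exact isAffine_of_isAffineHom iY
  have H1 : IsPullback g' (c ≫ iY) (b ≫ iX) f := H'.paste_vert H
  have hUY : (⊤ : Y.Opens) = g ⁻¹ᵁ ⊤ ⊓ iY ⁻¹ᵁ ⊤ := by simp
  have hUY' : c ⁻¹ᵁ (⊤ : Y.Opens) = g' ⁻¹ᵁ (b ⁻¹ᵁ ⊤) ⊓ (c ≫ iY) ⁻¹ᵁ ⊤ := by simp
  have hqS := isAffineOpen_top S
  have hqT := isAffineOpen_top T
  have hqX := isAffineOpen_top X
  have hI := isBCI_affine_of_flat_quot H I (US := ⊤) (UT := ⊤) le_top (UX := ⊤) le_top hUY le_top le_top hqS hqT hqX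
  refine isPatch_of_local c (I.comap g) (isIso_restrict H' (compl_support_comap I g).le h.iso) fun y => ?_
  refine ⟨⟨⊤, isAffineOpen_top Y⟩, trivial, ?_, fun n m hm => ?_⟩
  · refine bijective_transfer H.w H'.w I (US := ⊤) (UT := ⊤) le_top (UX := ⊤) le_top (UY := ⊤) le_top le_top
      H1.w le_top (hUY'.le.trans inf_le_left) le_top ((m1_iff b I ⟨⊤, hqX⟩).mp (h.m1 _)) hI ?_
    rcases hb with hb | ⟨hb1, hb2⟩
    · exact isBCI_affine_of_flat_quot H1 (I.comap b) (US := ⊤) (UT := ⊤) le_top (UX := b ⁻¹ᵁ ⊤) le_top hUY'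
        (hUY'.le.trans inf_le_left) le_top hqS hqT (hqX.preimage b)
    · have h1 := Groth.Agent.Ega3B.AcyclicBC.acyclicBC H1 (ClSub.idealMod (I.comap b))
        (Groth.Agent.CohqA.IdealMod.isQCoh_idealMod _)
        (isFlatOver_of_isInvertible _ (isInvertible_idealMod hb2)) fun p => by
          have h2 := h.m2 ⟨⊤, hqX⟩ (p + 1) 1 (Nat.succ_pos p) Nat.one_pos
          rw [pow_one] at h2
          exact (Groth.Agent.Flat2D.LocalGlobalH.HU_top_iff _ _).1
            ((Groth.Agent.Flat2D.LocalGlobalH.HU_iff_HHon _ _ _).2 h2)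
      have h3 : IsIso (theta g' (I.comap b)) := isIso_theta_of_flat_quot H1 _
      rw [Scheme.Modules.Hom.isIso_iff_isIso_app] at h3
      exact isBCI_of_isBC h1.2.1 ((ConcreteCategory.isIso_iff_bijective _).mp (h3 _))
  · rcases hb with hb | ⟨hb1, hb2⟩
    · have i3 : IsAffineHom c := MorphismProperty.of_isPullback H' hb
      have i4 : Coh.IsQCoh (ClSub.idealMod (((I.comap g).comap c) ^ m)) :=
        Groth.Agent.CohqA.IdealMod.isQCoh_idealMod _
      exact (Groth.Agent.Flat2D.LocalGlobalH.HU_iff_HHon _ _ _).1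
        (Groth.Agent.CohqA.AffineVanish.HU_subsingleton _ (n + 1) (Nat.succ_pos n) _
          ((isAffineOpen_top Y).preimage c))
    · have hK := Groth.Agent.Divis.EffCartier.isEff_pow hb2 m
      have hK' : BlowUp.IsEffCartierIdeal (((I.comap b) ^ m).comap g') := by
        rw [Groth.Agent.Divis.IdealComap.comap_pow]
        exact Groth.Agent.Divis.EffCartier.isEff_pow
          (Groth.Agent.Flat2D.PicZSch.isEffCartier_comap H1 (I.comap b) hb2) m
      have h1 := Groth.Agent.Ega3B.AcyclicBC.acyclicBC H1 (ClSub.idealMod ((I.comap b) ^ m))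
        (Groth.Agent.CohqA.IdealMod.isQCoh_idealMod _)
        (isFlatOver_of_isInvertible _ (isInvertible_idealMod hK)) fun p =>
          (Groth.Agent.Flat2D.LocalGlobalH.HU_top_iff _ _).1
            ((Groth.Agent.Flat2D.LocalGlobalH.HU_iff_HHon _ _ _).2
              (h.m2 ⟨⊤, hqX⟩ (p + 1) m (Nat.succ_pos p) hm))
      obtain ⟨e⟩ := pullback_idealMod g' hK hK'
      rw [← pow_comap_eq H'.w]
      exact HHon_congr e _ _ ((Groth.Agent.Flat2D.LocalGlobalH.HU_iff_HHon _ _ _).1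
        ((Groth.Agent.Flat2D.LocalGlobalH.HU_top_iff _ _).2 (h1.1 n)))

/-- (RBC) Base change of patching squares flat over a base. -/
theorem isPatch_of_isPullback (H : IsPullback g iY iX f)
    (H' : IsPullback g' c b g) [QuasiCompact b] [IsSeparated b] {I : X.IdealSheafData} (h : IsPatch b I)
    [Flat (I.subschemeι ≫ iX)] [Flat ((I.comap b).subschemeι ≫ b ≫ iX)]
    (hb : IsAffineHom b ∨ (Flat (b ≫ iX) ∧ BlowUp.IsEffCartierIdeal (I.comap b))) : IsPatch c (I.comap g) := by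
  have i1 : QuasiCompact c := MorphismProperty.of_isPullback H' ‹QuasiCompact b›
  have i2 : IsSeparated c := MorphismProperty.of_isPullback H' ‹IsSeparated b›
  refine isPatch_of_cover c (I.comap g) fun y => ?_
  obtain ⟨US, UT, -, hyT, -, -, hUST⟩ := exists_affine_le f (iY y) ⊤ trivial ⊤ trivial
  have hy : g y ∈ iX ⁻¹ᵁ US.1 := by
    change iX (g y) ∈ US.1
    rw [← Scheme.Hom.comp_apply, H.w, Scheme.Hom.comp_apply]
    exact hUST hyT
  obtain ⟨UX, hxX, hUX⟩ := exists_affine_mem_le _ _ hy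
  have iS : IsAffine US.1 := US.2
  have iT : IsAffine UT.1 := UT.2
  have iX' : IsAffine UX.1 := UX.2
  have h1 := Scheme.Hom.isPullback_resLE H (US := US.1) (UT := UT.1) hUST (UX := UX.1) hUX
    (UY := g ⁻¹ᵁ UX.1 ⊓ iY ⁻¹ᵁ UT.1) rfl
  have h2 := Scheme.Hom.isPullback_resLE H' (US := UX.1) (UT := g ⁻¹ᵁ UX.1 ⊓ iY ⁻¹ᵁ UT.1) inf_le_left
    (UX := b ⁻¹ᵁ UX.1) le_rfl (UY := c ⁻¹ᵁ (g ⁻¹ᵁ UX.1 ⊓ iY ⁻¹ᵁ UT.1)) (by
      rw [← Scheme.Hom.comp_preimage, H'.w, Scheme.Hom.comp_preimage]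
      exact (inf_eq_right.mpr (Scheme.Hom.preimage_mono c inf_le_left)).symm)
  have h3 : IsPullback (c ⁻¹ᵁ (g ⁻¹ᵁ UX.1 ⊓ iY ⁻¹ᵁ UT.1)).ι
      (c.resLE (g ⁻¹ᵁ UX.1 ⊓ iY ⁻¹ᵁ UT.1) (c ⁻¹ᵁ (g ⁻¹ᵁ UX.1 ⊓ iY ⁻¹ᵁ UT.1)) le_rfl) c
      (g ⁻¹ᵁ UX.1 ⊓ iY ⁻¹ᵁ UT.1).ι := by
    rw [Scheme.Hom.resLE_eq_morphismRestrict]
    exact (isPullback_morphismRestrict c _).flip
  have h4 : IsPullback (b ⁻¹ᵁ UX.1).ι (b.resLE UX.1 (b ⁻¹ᵁ UX.1) le_rfl) b UX.1.ι := by
    rw [Scheme.Hom.resLE_eq_morphismRestrict]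
    exact (isPullback_morphismRestrict b _).flip
  refine ⟨_, _, (g ⁻¹ᵁ UX.1 ⊓ iY ⁻¹ᵁ UT.1).ι, _, _, inferInstance, h3, ⟨⟨y, ⟨hxX, hyT⟩⟩, rfl⟩, ?_⟩
  have i3 : QuasiCompact (b.resLE UX.1 (b ⁻¹ᵁ UX.1) le_rfl) := MorphismProperty.of_isPullback h4 ‹QuasiCompact b›
  have h5 := isPatch_of_flat h4 h
  have i4 := flat_comap_resLE I (iX := iX) (US := US.1) (UX := UX.1) hUX
  have hle : b ⁻¹ᵁ UX.1 ≤ (b ≫ iX) ⁻¹ᵁ US.1 := Scheme.Hom.preimage_mono b hUX
  have hcomp : b.resLE UX.1 (b ⁻¹ᵁ UX.1) le_rfl ≫ iX.resLE US.1 UX.1 hUX = (b ≫ iX).resLE US.1 (b ⁻¹ᵁ UX.1) hle := by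
    rw [Scheme.Hom.resLE_comp_resLE]
  have hideal : (I.comap UX.1.ι).comap (b.resLE UX.1 (b ⁻¹ᵁ UX.1) le_rfl) =
      (I.comap b).comap (b ⁻¹ᵁ UX.1).ι := by
    rw [← Scheme.IdealSheafData.comap_comp, ← Scheme.IdealSheafData.comap_comp, h4.w]
  have i5 : Flat (((I.comap UX.1.ι).comap (b.resLE UX.1 (b ⁻¹ᵁ UX.1) le_rfl)).subschemeι ≫
      b.resLE UX.1 (b ⁻¹ᵁ UX.1) le_rfl ≫ iX.resLE US.1 UX.1 hUX) := by
    rw [hcomp, hideal]
    exact flat_comap_resLE (I.comap b) (iX := b ≫ iX) hle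
  have h6 := isPatch_affine h1 h2 h5 (by
    rcases hb with hb | ⟨hb1, hb2⟩
    · exact Or.inl (MorphismProperty.of_isPullback h4 hb)
    · refine Or.inr ⟨?_, ?_⟩
      · rw [hcomp]
        infer_instance
      · rw [hideal]
        exact Groth.Agent.Divis.EffCartier.isEff_comap_flat hb2 _)
  rw [← Scheme.IdealSheafData.comap_comp, Scheme.Hom.resLE_comp_ι, Scheme.IdealSheafData.comap_comp] at h6
  exact h6

/-- (RBC) in the form of `X_T = X ×_S T`. -/
theorem isPatch_pullback {iX : X ⟶ S} {b : X' ⟶ X} [QuasiCompact b] [IsSeparated b] {I : X.IdealSheafData}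
    (h : IsPatch b I) [Flat (b ≫ iX)] [Flat (I.subschemeι ≫ iX)] [Flat ((I.comap b).subschemeι ≫ b ≫ iX)]
    (hb : IsAffineHom b ∨ BlowUp.IsEffCartierIdeal (I.comap b)) (f : T ⟶ S) :
    IsPatch (pullback.map (b ≫ iX) f iX f b (𝟙 T) (𝟙 S) (by simp) (by simp)) (I.comap (pullback.fst iX f)) := by
  have H : IsPullback (pullback.fst iX f) (pullback.snd iX f) iX f := IsPullback.of_hasPullback _ _
  have H1 : IsPullback (pullback.fst (b ≫ iX) f) (pullback.snd (b ≫ iX) f) (b ≫ iX) f :=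
    IsPullback.of_hasPullback _ _
  have H' : IsPullback (pullback.fst (b ≫ iX) f)
      (pullback.map (b ≫ iX) f iX f b (𝟙 T) (𝟙 S) (by simp) (by simp)) b (pullback.fst iX f) := by
    have h1 : pullback.map (b ≫ iX) f iX f b (𝟙 T) (𝟙 S) (by simp) (by simp) ≫ pullback.snd iX f =
        pullback.snd (b ≫ iX) f := (pullback.lift_snd _ _ _).trans (Category.comp_id _)
    refine IsPullback.of_bot (v₂₁ := pullback.snd iX f) (v₂₂ := iX) (h₃₁ := f) ?_
      (pullback.lift_fst _ _ _).symm H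
    rw [h1]
    exact H1
  exact isPatch_of_isPullback H H' h (hb.imp id fun h1 => ⟨inferInstance, h1⟩)

end Groth.Agent.Pic13.H945.PatchRBC
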