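import Groth.Agent.Pic13.H945.DegAmple
import Groth.Agent.Pic13.H138.Finite

/-!
# S4279 and S4277 from boundedness of the numerically trivial classes

* `isTauEquivZero_of_bdd` : if the numerically trivial classes on a proper `X` are bounded, numerically
  trivial invertible modules are `τ`-equivalent to zero.
* `isTauEquivZero_of_twists_ample_of_bdd` : S4279 from the same hypothesis.
-/

set_option autoImplicit false
universe u
open CategoryTheory CategoryTheory.Limits AlgebraicGeometry

namespace Groth.Agent.Pic13.H945.Asm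

open Grpsch.PicGrp H138.AlgEquiv H138.BddPic H138.Finite DegAmple

variable (k : Type u) [Field k] [IsAlgClosed k] (X : Scheme.{u}) [X.Over (Spec (CommRingCat.of k))]
  [IsProper (X ↘ Spec (CommRingCat.of k))]

theorem num0_le_tau0 (hB : BddPic k X (num0 k X : Set (Pic X))) : num0 k X ≤ tau0 k X :=
  subgroup_le_tau0 hB

/-- Numerically trivial implies `τ`-equivalent to zero, from boundedness. -/
theorem isTauEquivZero_of_bdd (hB : BddPic k X (num0 k X : Set (Pic X)))
    (L : X.Modules) (hL : PicF.IsInvertible L) (hnum : Pic13.IsNumEquivZero k X L) :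
    Pic13.IsTauEquivZero k X L := by
  rw [isTauEquivZero_iff_mem hL]
  exact num0_le_tau0 k X hB ((isNumEquivZero_iff_mem k X hL).mp hnum)

/-- S4279 from boundedness. -/
theorem isTauEquivZero_of_twists_ample_of_bdd (hB : BddPic k X (num0 k X : Set (Pic X)))
    (H : X.Modules) (hH : CohB1.IsAmple H) (L L' : X.Modules) (hL : PicF.IsInvertible L)
    (hLL' : Nonempty (CohB1.tensorMod L L' ≅ Coh.structureModule X))
    (hamp : ∀ m : ℕ, CohB1.IsAmple (CohB1.tensorMod (CohB1.tensorPow L m) H) ∧
      CohB1.IsAmple (CohB1.tensorMod (CohB1.tensorPow L' m) H)) :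
    Pic13.IsTauEquivZero k X L :=
  isTauEquivZero_of_bdd k X hB L hL (isNumEquivZero_of_twists_ample k X H hH L L' hL hLL' hamp)

end Groth.Agent.Pic13.H945.Asm
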