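import Groth.Agent.Pic13.H945.Asm
import Groth.Agent.Pic13.H969.Bridge

/-!
# From a bounded family of numerically trivial modules to S4277/S4279

`bddPic_num0` : if the numerically trivial invertible modules on a proper `X` form a bounded family
(`Pic13.IsBounded`), then so do the numerically trivial classes (`BddPic`).
-/

set_option autoImplicit false
universe u
open CategoryTheory CategoryTheory.Limits AlgebraicGeometry

namespace Groth.Agent.Pic13.H945.Final

open Grpsch.PicGrp H138.AlgEquiv H138.BddPic H138.Finite DegAmple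

variable (k : Type u) [Field k] (X : Scheme.{u}) [X.Over (Spec (CommRingCat.of k))]
  [IsProper (X ↘ Spec (CommRingCat.of k))]

theorem bddPic_num0 (h : Pic13.IsBounded k X (fun N => PicF.IsInvertible N ∧ Pic13.IsNumEquivZero k X N)) :
    BddPic k X (num0 k X : Set (Pic X)) := by
  refine BddPic.mono (H969.Bridge.bridge k X _ h) fun a ha => ?_
  obtain ⟨L, hL, rfl⟩ := exists_mk a
  exact ⟨L, hL, ⟨hL, (isNumEquivZero_iff_mem k X hL).mpr ha⟩, rfl⟩

/-- Numerically trivial implies `τ`-equivalent to zero, from boundedness in the sense of `Pic13.IsBounded`. -/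
theorem isTauEquivZero_of_isBounded [IsAlgClosed k]
    (h : Pic13.IsBounded k X (fun N => PicF.IsInvertible N ∧ Pic13.IsNumEquivZero k X N))
    (L : X.Modules) (hL : PicF.IsInvertible L) (hnum : Pic13.IsNumEquivZero k X L) :
    Pic13.IsTauEquivZero k X L :=
  Asm.isTauEquivZero_of_bdd k X (bddPic_num0 k X h) L hL hnum

/-- S4279 from boundedness in the sense of `Pic13.IsBounded`. -/
theorem isTauEquivZero_of_twists_ample [IsAlgClosed k]
    (h : Pic13.IsBounded k X (fun N => PicF.IsInvertible N ∧ Pic13.IsNumEquivZero k X N))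
    (H : X.Modules) (hH : CohB1.IsAmple H) (L L' : X.Modules) (hL : PicF.IsInvertible L)
    (hLL' : Nonempty (CohB1.tensorMod L L' ≅ Coh.structureModule X))
    (hamp : ∀ m : ℕ, CohB1.IsAmple (CohB1.tensorMod (CohB1.tensorPow L m) H) ∧
      CohB1.IsAmple (CohB1.tensorMod (CohB1.tensorPow L' m) H)) :
    Pic13.IsTauEquivZero k X L :=
  Asm.isTauEquivZero_of_twists_ample_of_bdd k X (bddPic_num0 k X h) H hH L L' hL hLL' hamp

end Groth.Agent.Pic13.H945.Final
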